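import Cfsg.Agent.H74.Asch.EightPlane

/-!
The residue `q = 8`: the conjugates of `u` in `S` outside `R` are not central modulo `R`, form at
most two classes modulo the squares, and `u` avoids the group of squares and products of two
conjugates.
-/

set_option autoImplicit false
set_option linter.style.haveILetI false
set_option linter.unusedSectionVars false

namespace Cfsg.Agent.H74.Asch

open Subgroup
open scoped commutatorElement

universe u

variable {G : Type u} [Group G]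

namespace EightData

variable {H S K E : Subgroup G} {u : G} {C : Set G} (d : EightData H S K E u C)
include d

/-- A conjugate of `u` outside `R` is not central modulo `R`. -/
theorem not_central [Finite G] {v : G} (hv : v ∈ C) (hvS : v ∈ S) (hvR : v ∉ core K u) :
    ∃ s ∈ S, v⁻¹ * (s * v * s⁻¹) ∉ core K u := by
  by_contra hc
  push Not at hc
  have hv2 := d.inv v hv
  have hvi : v⁻¹ = v := inv_eq_of_mul_eq_one_right hv2
  let I : Subgroup G :=
    { carrier := {k | k ∈ K ∧ v * k * v = k⁻¹}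
      one_mem' := ⟨K.one_mem, by rw [mul_one, inv_one]; exact hv2⟩
      mul_mem' := fun {a b} ha hb => ⟨K.mul_mem ha.1 hb.1, by
        rw [mul_inv_rev, ← ha.2, ← hb.2, (d.commute_K ha.1 hb.1).eq]
        calc v * (b * a) * v = v * b * (v * v) * a * v := by rw [hv2, mul_one]; group
          _ = _ := by group⟩
      inv_mem' := fun {a} ha => ⟨K.inv_mem ha.1, by
        rw [← congrArg (·⁻¹) ha.2, mul_inv_rev, mul_inv_rev, hvi, mul_assoc]⟩ }
  obtain ⟨hle, -⟩ := H51.Asch.card_le_centralized_mul (K := S) (T := I) v fun g hg => by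
    set x := v⁻¹ * (g * v * g⁻¹) with hx
    have hxR : x ∈ core K u := hc g hg
    have hinv : v * x * (v * x) = 1 := by
      rw [hx, mul_inv_cancel_left]
      calc g * v * g⁻¹ * (g * v * g⁻¹) = g * (v * v) * g⁻¹ := by group
        _ = 1 := by rw [hv2]; group
    have hxK := d.mul_mem_K hvS hvR hv2 hxR hinv
    have h1 : ⁅g, v⁆ = v * x * v := by
      rw [hx, commutatorElement_def, hvi, ← mul_assoc, hv2, one_mul]
    have h2 : v * x * v = x⁻¹ := eq_inv_of_mul_eq_one_left (by rw [mul_assoc (v * x)]; exact hinv)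
    rw [h1, h2]
    exact I.inv_mem ⟨hxK, h2⟩
  have h16 := d.card_S ▸ hle.trans (Nat.mul_le_mul_right _ (d.card_centralizer_le hv))
  have hIK : I ≤ K := fun k hk => hk.1
  have hIeq : I = K := eq_of_le_of_card_ge hIK (by omega)
  refine hvR (d.mem_core_of_cent_E hvS fun e he => ?_)
  have h1 : e ∈ I := hIeq.symm ▸ d.E_le he
  have h2 := h1.2
  rw [d.inv_E he] at h2
  calc v * e = v * e * (v * v) := by rw [hv2, mul_one]
    _ = e * v := by rw [← mul_assoc, h2]

variable {e₀ c f : G} (F : Flag S E e₀ c f)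
include F

/-- Inside `W` a conjugate outside `R` moves `f` out of `f * e₀`. -/
theorem not_flat [Finite G] {v : G} (hv : v ∈ C) (hvW : v ∈ planeCent S c)
    (hvR : v ∉ core K u) : ¬ (disp f v = 1 ∨ disp f v = e₀) := by
  intro hflat
  obtain ⟨Φ, y, hyW, hyd, -⟩ := d.exists_phi F
  obtain ⟨s, hs, hsv⟩ := d.not_central hv ((d.mem_W F).mp hvW).1 hvR
  apply hsv
  have hvd : disp f v = e₀ := hflat.resolve_left fun h => hvR (d.mem_core_of_disp F hvW h)
  have hconj := d.conj_mem_W F hs hvW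
  refine d.mem_core_of_disp F (mul_mem (inv_mem hvW) hconj) ?_
  rw [d.disp_mul_W F (inv_mem hvW) ((d.mem_W F).mp hconj).1, d.disp_conj F hs hvW, hvd,
    F.fix s hs, inv_eq_of_mul_eq_one_right (d.inv v hv), hvd, d.sq _ F.e₀_mem]

/-- Outside `W` it is flat. -/
theorem flat [Finite G] {v : G} (hv : v ∈ C) (hvS : v ∈ S) (hvW : v ∉ planeCent S c) :
    disp f v = 1 ∨ disp f v = e₀ := by
  by_contra h
  have hc : disp f v = c ∨ disp f v = c * e₀ := by
    rcases d.disp_plane F hvS with h1 | h1 | h1 | h1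
    exacts [absurd (Or.inl h1) h, absurd (Or.inr h1) h, Or.inl h1, Or.inr h1]
  have h1 := d.disp_sq_rot F hvS hvW hc
  rw [d.inv v hv, d.disp_core F (one_mem _)] at h1
  exact F.e₀_ne h1.symm

theorem notMem_phi_of_not_flat {Φ : Subgroup G} {y : G} (hy : y ∈ planeCent S c)
    (hyd : disp f y = e₀) (hΦ : ∀ x, x ∈ Φ ↔ x ∈ K ∨ y⁻¹ * x ∈ K) {x : G} (hx : x ∈ Φ) :
    x ∈ planeCent S c ∧ (disp f x = 1 ∨ disp f x = e₀) := by
  rcases (hΦ x).mp hx with h | h
  · exact ⟨d.mem_W_of_mem_core F (d.K_le_core h), Or.inl (d.disp_core F (d.K_le_core h))⟩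
  · have hW := mul_mem hy (d.mem_W_of_mem_core F (d.K_le_core h))
    rw [mul_inv_cancel_left] at hW
    refine ⟨hW, Or.inr ?_⟩
    have h1 := d.disp_mul_W F hy (d.K_le h)
    rw [mul_inv_cancel_left, d.disp_core F (d.K_le_core h), one_mul, hyd] at h1
    exact h1

/-- Two conjugates in one class modulo `R ∪ y R` are congruent modulo the squares. -/
theorem congr_phi [Finite G] {Φ : Subgroup G} {y : G} (hy : y ∈ planeCent S c)
    (hyd : disp f y = e₀) (hΦ : ∀ x, x ∈ Φ ↔ x ∈ K ∨ y⁻¹ * x ∈ K)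
    (hsq : ∀ s ∈ S, s * s ∈ Φ) {v v' : G} (hv : v ∈ C) (hvS : v ∈ S) (hvR : v ∉ core K u)
    (hv' : v' ∈ C) (hclass : v⁻¹ * v' ∈ core K u ∨ y⁻¹ * (v⁻¹ * v') ∈ core K u) :
    v⁻¹ * v' ∈ Φ := by
  have hv2 := d.inv v hv
  have hvi : v⁻¹ = v := inv_eq_of_mul_eq_one_right hv2
  rcases hclass with h | h
  · refine (hΦ _).mpr (Or.inl (d.mul_mem_K hvS hvR hv2 h ?_))
    rw [mul_inv_cancel_left, d.inv v' hv']
  · obtain ⟨s, hs, hsv⟩ := d.not_central hv hvS hvR
    set z := v⁻¹ * (s * v * s⁻¹) with hz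
    have hzΦ : z ∈ Φ := by
      have e : z = v * v * (v * s * (v * s)) * (s⁻¹ * s⁻¹) := by
        rw [hz, hvi, hv2, one_mul]; group
      rw [e]
      exact Φ.mul_mem (Φ.mul_mem (hsq v hvS) (hsq _ (mul_mem hvS hs))) (hsq _ (inv_mem hs))
    have hzy : y⁻¹ * z ∈ K :=
      ((hΦ z).mp hzΦ).resolve_left fun hk => hsv (d.K_le_core hk)
    set q := v * z with hq
    have hqC : q ∈ C := by
      rw [hq, hz, mul_inv_cancel_left]; exact d.conj_mem s (d.le hs) v hv
    have hqS : q ∈ S := by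
      rw [hq, hz, mul_inv_cancel_left]; exact mul_mem (mul_mem hs hvS) (inv_mem hs)
    have hqR : q ∉ core K u := fun hqR => by
      apply hvR
      have := d.conj_mem_core (inv_mem hs) hqR
      rw [hq, hz, mul_inv_cancel_left, inv_inv,
        show s⁻¹ * (s * v * s⁻¹) * s = v by group] at this
      exact this
    have hqv : q⁻¹ * v' = (y⁻¹ * z)⁻¹ * (y⁻¹ * (v⁻¹ * v')) := by rw [hq]; group
    have hqR' : q⁻¹ * v' ∈ core K u := by
      rw [hqv]; exact mul_mem (inv_mem (d.K_le_core hzy)) h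
    have hK := d.mul_mem_K hqS hqR (d.inv q hqC) hqR' (by rw [mul_inv_cancel_left, d.inv v' hv'])
    have e : v⁻¹ * v' = z * (q⁻¹ * v') := by rw [hq]; group
    rw [e]
    exact Φ.mul_mem hzΦ ((hΦ _).mpr (Or.inl hK))

/-- `u` avoids the squares and the products of two conjugates. -/
theorem u_notMem_genGroup [Finite G] : u ∉ genGroup S C := by
  classical
  obtain ⟨Φ, y, hy, hyd, hΦ, hΦS, hsq, hΦn⟩ := d.exists_phi F
  -- representatives of the two classes
  obtain ⟨a, haS, ha, haU⟩ : ∃ a ∈ S, (∀ v ∈ C, v ∈ planeCent S c → v ∉ core K u → a⁻¹ * v ∈ Φ) ∧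
      (a = u ∨ a ∈ planeCent S c ∧ ¬ (disp f a = 1 ∨ disp f a = e₀)) := by
    by_cases hex : ∃ v ∈ C, v ∈ planeCent S c ∧ v ∉ core K u
    · obtain ⟨a, haC, haW, haR⟩ := hex
      have han := d.not_flat F haC haW haR
      have haS := ((d.mem_W F).mp haW).1
      refine ⟨a, haS, fun v hv hvW hvR => ?_, Or.inr ⟨haW, han⟩⟩
      have hvn := d.not_flat F hv hvW hvR
      refine d.congr_phi F hy hyd hΦ hsq haC haS haR hv
        (d.flat_cases F (mul_mem (inv_mem haW) hvW) hy hyd ?_)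
      rw [d.disp_mul_W F (inv_mem haW) ((d.mem_W F).mp hvW).1,
        inv_eq_of_mul_eq_one_right (d.inv a haC)]
      have hcases : ∀ {w}, w ∈ S → ¬ (disp f w = 1 ∨ disp f w = e₀) →
          disp f w = c ∨ disp f w = c * e₀ := fun {w} hw hn => by
        rcases d.disp_plane F hw with h | h | h | h
        exacts [absurd (Or.inl h) hn, absurd (Or.inr h) hn, Or.inl h, Or.inr h]
      have hc2 := d.sq c F.c_mem
      have hcm := (d.commute_E F.e₀_mem F.c_mem).eq
      rcases hcases ((d.mem_W F).mp hvW).1 hvn with h1 | h1 <;>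
        rcases hcases haS han with h2 | h2 <;> rw [h1, h2]
      · exact Or.inl hc2
      · exact Or.inr (by rw [← mul_assoc, hc2, one_mul])
      · exact Or.inr (by rw [mul_assoc, hcm, ← mul_assoc, hc2, one_mul])
      · exact Or.inl (d.sq _ (E.mul_mem F.c_mem F.e₀_mem))
    · push Not at hex
      exact ⟨u, d.u_mem, fun v hv hvW hvR => absurd (hex v hv hvW) hvR, Or.inl rfl⟩
  obtain ⟨b, hbS, hb, hbU⟩ : ∃ b ∈ S, (∀ v ∈ C, v ∈ S → v ∉ planeCent S c → b⁻¹ * v ∈ Φ) ∧
      (b = u ∨ b ∉ planeCent S c) := by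
    by_cases hex : ∃ v ∈ C, v ∈ S ∧ v ∉ planeCent S c
    · obtain ⟨b, hbC, hbS, hbW⟩ := hex
      refine ⟨b, hbS, fun v hv hvS hvW => ?_, Or.inr hbW⟩
      have hbi : b⁻¹ = b := inv_eq_of_mul_eq_one_right (d.inv b hbC)
      have hW : b⁻¹ * v ∈ planeCent S c := by rw [hbi]; exact d.mul_mem_W F hbS hbW hvS hvW
      refine d.congr_phi F hy hyd hΦ hsq hbC hbS (fun h => hbW (d.mem_W_of_mem_core F h)) hv
        (d.flat_cases F hW hy hyd ?_)
      rw [hbi, d.disp_mul F]
      rcases d.flat F hv hvS hvW with h1 | h1 <;> rcases d.flat F hbC hbS hbW with h2 | h2 <;>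
        rw [h1, h2]
      · left; group
      · right; group
      · right; rw [F.fix b hbS, mul_one]
      · left; rw [F.fix b hbS, d.sq _ F.e₀_mem]
    · push Not at hex
      exact ⟨u, d.u_mem, fun v hv hvS hvW => absurd (hex v hv hvS) hvW, Or.inl rfl⟩
  -- the quotient by the squares
  set Φ' := Φ.subgroupOf S with hΦ'
  haveI hnorm : Φ'.Normal := ⟨fun x hx s => mem_subgroupOf.mpr (hΦn s s.2 x (mem_subgroupOf.mp hx))⟩
  set π := QuotientGroup.mk' Φ' with hπ
  have hπ1 : ∀ {x : S}, π x = 1 ↔ (x : G) ∈ Φ := fun {x} => by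
    rw [hπ, QuotientGroup.mk'_apply, QuotientGroup.eq_one_iff]; exact mem_subgroupOf
  have htwo : ∀ z : S ⧸ Φ', z * z = 1 := fun z => by
    induction z using QuotientGroup.induction_on with
    | _ z => rw [← QuotientGroup.mk_mul, QuotientGroup.eq_one_iff]; exact hsq z z.2
  have hinv : ∀ z : S ⧸ Φ', z⁻¹ = z := fun z => inv_eq_of_mul_eq_one_right (htwo z)
  have hcomm : ∀ z w : S ⧸ Φ', z * w = w * z := fun z w => by
    conv_lhs => rw [← hinv (z * w), mul_inv_rev, hinv, hinv]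
  set A := π ⟨a, haS⟩ * π ⟨u, d.u_mem⟩
  set B := π ⟨b, hbS⟩ * π ⟨u, d.u_mem⟩
  let L : Subgroup (S ⧸ Φ') :=
    { carrier := {z | z = 1 ∨ z = A ∨ z = B ∨ z = A * B}
      one_mem' := Or.inl rfl
      mul_mem' := fun {x y} hx hy => by
        have h1 : ∀ z, A * (A * z) = z := fun z => by rw [← mul_assoc, htwo, one_mul]
        have h2 : ∀ z, B * (B * z) = z := fun z => by rw [← mul_assoc, htwo, one_mul]
        have h3 : B * A = A * B := hcomm B A
        have h4 : ∀ z, B * (A * z) = A * (B * z) := fun z => by rw [← mul_assoc, h3, mul_assoc]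
        rcases hx with rfl | rfl | rfl | rfl <;> rcases hy with rfl | rfl | rfl | rfl <;>
          simp [mul_assoc, htwo, h1, h2, h3, h4]
      inv_mem' := fun {x} hx => by
        show x⁻¹ = 1 ∨ x⁻¹ = A ∨ x⁻¹ = B ∨ x⁻¹ = A * B
        rwa [hinv x] }
  have hclass : ∀ v ∈ C, ∀ hvS : v ∈ S, π ⟨v, hvS⟩ * π ⟨u, d.u_mem⟩ ∈ L := by
    intro v hv hvS
    by_cases hvW : v ∈ planeCent S c
    · by_cases hvR : v ∈ core K u
      · left
        rw [← map_mul, hπ1]
        exact (hΦ _).mpr (Or.inl ((d.mem_core.mp hvR).resolve_left (d.notMem v hv)))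
      · refine Or.inr (Or.inl (congrArg (· * π ⟨u, d.u_mem⟩) ?_))
        refine (inv_mul_eq_one.mp ?_).symm
        rw [← map_inv, ← map_mul, hπ1]
        exact ha v hv hvW hvR
    · refine Or.inr (Or.inr (Or.inl (congrArg (· * π ⟨u, d.u_mem⟩) ?_)))
      refine (inv_mul_eq_one.mp ?_).symm
      rw [← map_inv, ← map_mul, hπ1]
      exact hb v hv hvS hvW
  have hle : genGroup S C ≤ (L.comap π).map S.subtype := by
    refine (closure_le _).mpr ?_
    rintro g (⟨x, hx, x', hx', hxS, hxS', rfl⟩ | ⟨s, hs, rfl⟩)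
    · refine ⟨⟨x, hxS⟩ * ⟨x', hxS'⟩, ?_, rfl⟩
      have := L.mul_mem (hclass x hx hxS) (hclass x' hx' hxS')
      rw [mul_assoc, ← mul_assoc (π ⟨u, d.u_mem⟩), hcomm (π ⟨u, d.u_mem⟩), mul_assoc, htwo,
        mul_one, ← map_mul] at this
      exact this
    · refine ⟨⟨s, hs⟩ * ⟨s, hs⟩, ?_, rfl⟩
      show π _ ∈ L
      rw [hπ1.mpr (by exact hsq s hs)]
      exact L.one_mem
  intro hu
  obtain ⟨w, hw, hwu⟩ := hle hu
  obtain rfl : w = ⟨u, d.u_mem⟩ := Subtype.ext hwu
  -- elements of `Φ` are flat in `W`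
  have hflat : ∀ {x}, x ∈ Φ → x ∈ planeCent S c ∧ (disp f x = 1 ∨ disp f x = e₀) :=
    fun hx => d.notMem_phi_of_not_flat F hy hyd hΦ hx
  have huR := d.u_mem_core
  have hu1 : π ⟨u, d.u_mem⟩ ≠ 1 := fun h => by
    rcases (hΦ u).mp (hπ1.mp h) with h1 | h1
    · exact d.u_notMem h1
    · have := d.disp_core F (mul_mem huR (inv_mem (d.K_le_core h1)))
      rw [mul_inv_rev, inv_inv, mul_inv_cancel_left, hyd] at this
      exact F.e₀_ne this
  have ha1 : π ⟨a, haS⟩ ≠ 1 := fun h => by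
    rcases haU with rfl | ⟨-, han⟩
    · exact hu1 h
    · exact han (hflat (hπ1.mp h)).2
  have hb1 : π ⟨b, hbS⟩ ≠ 1 := fun h => by
    rcases hbU with rfl | hbn
    · exact hu1 h
    · exact hbn (hflat (hπ1.mp h)).1
  rcases hw with h | h | h | h
  · exact hu1 h
  · exact ha1 (mul_eq_right.mp h.symm)
  · exact hb1 (mul_eq_right.mp h.symm)
  · have hAB : A * B = π ⟨a, haS⟩ * π ⟨b, hbS⟩ := by
      simp only [A, B]
      rw [mul_assoc, ← mul_assoc (π ⟨u, d.u_mem⟩), hcomm (π ⟨u, d.u_mem⟩) (π ⟨b, hbS⟩), mul_assoc,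
        htwo, mul_one]
    rw [hAB] at h
    rcases haU with rfl | ⟨haW, han⟩
    · exact hb1 (mul_eq_left.mp h.symm)
    rcases hbU with rfl | hbn
    · exact ha1 (mul_eq_right.mp h.symm)
    have h1 : a * b * u ∈ Φ := by
      have : π (⟨a, haS⟩ * ⟨b, hbS⟩ * ⟨u, d.u_mem⟩) = 1 := by
        rw [map_mul, map_mul, ← h, htwo]
      exact hπ1.mp this
    have h2 := mul_mem (mul_mem (inv_mem haW) (hflat h1).1) (inv_mem (d.mem_W_of_mem_core F huR))
    rw [mul_assoc a b u, inv_mul_cancel_left, mul_inv_cancel_right] at h2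
    exact hbn h2

end EightData

end Cfsg.Agent.H74.Asch
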