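import Cfsg.Agent.H51.Asch.Inverted
import Cfsg.Agent.PGroups.Basic

/-!
The residue `q = 8` (notes/aschbacher.md, P3): a group `S` of order `16 |K|` normalising an abelian
group `K` inverted by the involution `u`, with involutions `E` of order `8`, and permuting the
elements `k * u` modulo `R = K ∪ K u`, the conjugates of `u` having elementary abelian
`2`-centralisers of order at most `16`. This file: `R` and the action on `E`.
-/

set_option autoImplicit false
set_option linter.style.haveILetI false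
set_option linter.unusedSectionVars false

namespace Cfsg.Agent.H74.Asch

open Subgroup
open scoped commutatorElement

universe u

variable {G : Type u} [Group G]

/-- The group `K` extended by `u`. -/
def core (K : Subgroup G) (u : G) : Subgroup G := K ⊔ zpowers u

/-- The configuration: `C` is the set of conjugates of `u` in `H`. -/
structure EightData (H S K E : Subgroup G) (u : G) (C : Set G) : Prop where
  sq : ∀ e ∈ E, e * e = 1
  card_E : Nat.card E = 8
  E_le : E ≤ K
  omega : ∀ k ∈ K, k * k = 1 → k ∈ E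
  roots : K = E ∨ ∀ e ∈ E, ∃ k ∈ K, k * k = e
  sq_u : u * u = 1
  u_notMem : u ∉ K
  inverts : ∀ k ∈ K, u * k * u = k⁻¹
  two : IsPGroup 2 S
  le : S ≤ H
  K_le : K ≤ S
  u_mem : u ∈ S
  card_S : Nat.card S = 16 * Nat.card K
  normE : S ≤ normalizer (E : Set G)
  normK : S ≤ normalizer (K : Set G)
  conj_u : ∀ s ∈ S, s * u * s⁻¹ * u ∈ K
  cent_E : ∀ s ∈ S, (∀ e ∈ E, Commute s e) → s ∈ K ∨ s * u ∈ K
  cent_u : ∀ s ∈ S, Commute s u → s ∈ K ∨ s * u ∈ K
  conj_mem : ∀ h ∈ H, ∀ v ∈ C, h * v * h⁻¹ ∈ C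
  inv : ∀ v ∈ C, v * v = 1
  notMem : ∀ v ∈ C, v ∉ K
  u_C : u ∈ C
  small : ∀ v ∈ C, ∀ W : Subgroup G, IsPGroup 2 W → W ≤ H → (∀ g ∈ W, Commute g v) →
    Nat.card W ≤ 16 ∧ (∀ a ∈ W, ∀ b ∈ W, Commute a b) ∧ ∀ a ∈ W, a * a = 1
  max : ∀ P : Subgroup G, IsPGroup 2 P → P ≤ H → S ≤ P →
    P ≤ normalizer ((core K u : Subgroup G) : Set G) → P ≤ S

namespace EightData

variable {H S K E : Subgroup G} {u : G} {C : Set G} (d : EightData H S K E u C)
include d

theorem inv_u : u⁻¹ = u := inv_eq_of_mul_eq_one_right d.sq_u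

theorem inv_E {e : G} (he : e ∈ E) : e⁻¹ = e := inv_eq_of_mul_eq_one_right (d.sq e he)

theorem commute_K {a b : G} (ha : a ∈ K) (hb : b ∈ K) : Commute a b := by
  have h := d.inverts _ (K.mul_mem ha hb)
  rw [mul_inv_rev, ← d.inverts a ha, ← d.inverts b hb] at h
  have h' : u * (a * b) * u = u * (b * a) * u := by
    rw [h]
    calc u * b * u * (u * a * u) = u * b * (u * u) * a * u := by group
      _ = _ := by rw [d.sq_u, mul_one, mul_assoc u]
  exact mul_left_cancel (mul_right_cancel h')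

theorem commute_E {a b : G} (ha : a ∈ E) (hb : b ∈ E) : Commute a b :=
  d.commute_K (d.E_le ha) (d.E_le hb)

theorem commute_u {e : G} (he : e ∈ E) : Commute e u := by
  have h := d.inverts e (d.E_le he)
  rw [d.inv_E he] at h
  calc e * u = u * e * u * u := by rw [h]
    _ = u * e := by rw [mul_assoc _ u u, d.sq_u, mul_one]

theorem mem_core {x : G} : x ∈ core K u ↔ x ∈ K ∨ x * u ∈ K := by
  constructor
  · intro hx
    let L : Subgroup G :=
      { carrier := {x | x ∈ K ∨ x * u ∈ K}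
        one_mem' := Or.inl K.one_mem
        mul_mem' := fun {a b} ha hb => by
          rcases ha with ha | ha <;> rcases hb with hb | hb
          · exact Or.inl (K.mul_mem ha hb)
          · exact Or.inr (by rw [mul_assoc]; exact K.mul_mem ha hb)
          · refine Or.inr ?_
            have e : a * b * u = a * u * (u * b * u) := by
              calc a * b * u = a * (u * u) * b * u := by rw [d.sq_u, mul_one]
                _ = _ := by group
            rw [e, d.inverts b hb]
            exact K.mul_mem ha (K.inv_mem hb)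
          · refine Or.inl ?_
            have e : a * b = a * u * (u * (b * u) * u) := by
              calc a * b = a * (u * u) * b * (u * u) := by rw [d.sq_u, mul_one, mul_one]
                _ = _ := by group
            rw [e, d.inverts _ hb]
            exact K.mul_mem ha (K.inv_mem hb)
        inv_mem' := fun {a} ha => by
          rcases ha with ha | ha
          · exact Or.inl (K.inv_mem ha)
          · refine Or.inr ?_
            have e : a⁻¹ * u = u * (a * u)⁻¹ * u := by
              rw [mul_inv_rev, ← mul_assoc, d.inv_u, d.sq_u, one_mul]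
            rw [e, d.inverts _ (K.inv_mem ha), inv_inv]
            exact ha }
    refine (sup_le (fun e he => Or.inl he) (zpowers_le.mpr ?_) : core K u ≤ L) hx
    exact Or.inr (by rw [d.sq_u]; exact K.one_mem)
  · rintro (hx | hx)
    · exact mem_sup_left hx
    · rw [show x = x * u * u by rw [mul_assoc, d.sq_u, mul_one]]
      exact mul_mem (mem_sup_left hx) (mem_sup_right (mem_zpowers u))

theorem u_mem_core : u ∈ core K u := mem_sup_right (mem_zpowers u)

theorem K_le_core : K ≤ core K u := le_sup_left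

theorem E_le_core : E ≤ core K u := d.E_le.trans le_sup_left

theorem core_le : core K u ≤ S := sup_le d.K_le (zpowers_le.mpr d.u_mem)

theorem E_le_S : E ≤ S := d.E_le.trans d.K_le

theorem commute_core_E {x e : G} (hx : x ∈ core K u) (he : e ∈ E) : Commute x e := by
  rcases d.mem_core.mp hx with h | h
  · exact d.commute_K h (d.E_le he)
  · have := (d.commute_K h (d.E_le he)).mul_left (d.commute_u he).symm
    rwa [mul_assoc, d.sq_u, mul_one] at this

theorem sq_mul_u {k : G} (hk : k ∈ K) : k * u * (k * u) = 1 := by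
  calc k * u * (k * u) = k * (u * k * u) := by group
    _ = 1 := by rw [d.inverts k hk, mul_inv_cancel]

theorem sq_outer {x : G} (hx : x ∈ core K u) (hxK : x ∉ K) : x * x = 1 := by
  have := d.sq_mul_u ((d.mem_core.mp hx).resolve_left hxK)
  rwa [mul_assoc x u u, d.sq_u, mul_one] at this

theorem sq_core {x : G} (hx : x ∈ core K u) : x * x ∈ K := by
  by_cases hxK : x ∈ K
  · exact K.mul_mem hxK hxK
  · rw [d.sq_outer hx hxK]; exact K.one_mem

theorem card_core [Finite G] : Nat.card (core K u) = 2 * Nat.card K := by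
  classical
  let f : K × Bool → core K u := fun p =>
    ⟨if p.2 then (p.1 : G) * u else p.1, by
      split_ifs
      · exact mul_mem (mem_sup_left p.1.2) d.u_mem_core
      · exact mem_sup_left p.1.2⟩
  have hf : Function.Bijective f := by
    constructor
    · rintro ⟨e, _ | _⟩ ⟨e', _ | _⟩ h <;> simp [f] at h
      · exact Prod.ext h rfl
      · exact absurd (by rw [show u = (e' : G)⁻¹ * e by rw [h, inv_mul_cancel_left]]
                         exact K.mul_mem (K.inv_mem e'.2) e.2) d.u_notMem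
      · exact absurd (by rw [show u = (e : G)⁻¹ * e' by rw [← h, inv_mul_cancel_left]]
                         exact K.mul_mem (K.inv_mem e.2) e'.2) d.u_notMem
      · exact Prod.ext h rfl
    · rintro ⟨x, hx⟩
      rcases d.mem_core.mp hx with h | h
      · exact ⟨(⟨x, h⟩, false), rfl⟩
      · refine ⟨(⟨x * u, h⟩, true), Subtype.ext ?_⟩
        simp [f, mul_assoc, d.sq_u]
  rw [← Nat.card_eq_of_bijective f hf, Nat.card_prod, Nat.card_eq_fintype_card (α := Bool),
    Fintype.card_bool, mul_comm]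

theorem conj_E {s e : G} (hs : s ∈ S) (he : e ∈ E) : s * e * s⁻¹ ∈ E :=
  (mem_normalizer_iff.mp (d.normE hs) e).mp he

theorem conj_K {s k : G} (hs : s ∈ S) (hk : k ∈ K) : s * k * s⁻¹ ∈ K :=
  (mem_normalizer_iff.mp (d.normK hs) k).mp hk

theorem conj_outer {s x : G} (hs : s ∈ S) (hx : x ∈ core K u) (hxK : x ∉ K) :
    s * x * s⁻¹ * x ∈ K := by
  have h := (d.mem_core.mp hx).resolve_left hxK
  have e : s * x * s⁻¹ * x = s * (x * u) * s⁻¹ * (s * u * s⁻¹ * u) * (u * x) := by
    calc s * x * s⁻¹ * x = s * x * (u * u) * s⁻¹ * (u * u) * x := by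
          rw [d.sq_u, mul_one, mul_one]
      _ = _ := by group
  have hux : u * x ∈ K := by
    have h1 := d.inverts _ h
    rw [mul_assoc u, mul_assoc x, d.sq_u, mul_one] at h1
    rw [h1]
    exact K.inv_mem h
  rw [e]
  exact K.mul_mem (K.mul_mem (d.conj_K hs h) (d.conj_u s hs)) hux

theorem conj_mem_core {s x : G} (hs : s ∈ S) (hx : x ∈ core K u) : s * x * s⁻¹ ∈ core K u := by
  by_cases hxK : x ∈ K
  · exact mem_sup_left (d.conj_K hs hxK)
  · have := mul_mem (mem_sup_left (d.conj_outer hs hx hxK) : _ ∈ core K u) hx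
    rwa [mul_assoc _ x x, d.sq_outer hx hxK, mul_one] at this

/-- The commutators of `S` with `R` lie in `K`. -/
theorem commutator_core {s x : G} (hs : s ∈ S) (hx : x ∈ core K u) : ⁅s, x⁆ ∈ K := by
  rw [commutatorElement_def]
  by_cases hxK : x ∈ K
  · exact K.mul_mem (d.conj_K hs hxK) (K.inv_mem hxK)
  · rw [inv_eq_of_mul_eq_one_right (d.sq_outer hx hxK)]
    exact d.conj_outer hs hx hxK

theorem normal_core : S ≤ normalizer ((core K u : Subgroup G) : Set G) :=
  le_normalizer_iff.mpr fun _ hs _ hx => d.conj_mem_core hs hx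

theorem card_centralizer_le [Finite G] {v : G} (hv : v ∈ C) :
    Nat.card (S ⊓ centralizer {v} : Subgroup G) ≤ 16 :=
  (d.small v hv _ (d.two.to_le inf_le_left) (inf_le_left.trans d.le) fun _ hg =>
    mem_centralizer_singleton_iff.mp hg.2).1

/-- `S` is transitive on the elements `k * u`. -/
theorem exists_conj_u [Finite G] {k : G} (hk : k ∈ K) : ∃ s ∈ S, s * u * s⁻¹ = k * u := by
  obtain ⟨-, hsurj⟩ := H51.Asch.card_le_centralized_mul (K := S) (T := K) u fun g hg => by
    rw [commutatorElement_def, d.inv_u]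
    exact d.conj_u g hg
  obtain ⟨s, hs, hse⟩ := hsurj (by
    rw [d.card_S]; exact Nat.mul_le_mul_right _ (d.card_centralizer_le d.u_C)) k hk
  refine ⟨s, hs, ?_⟩
  rw [commutatorElement_def, d.inv_u] at hse
  rw [← hse, mul_assoc _ u u, d.sq_u, mul_one]

theorem exists_conj_outer [Finite G] {x : G} (hx : x ∈ core K u) (hxK : x ∉ K) :
    ∃ s ∈ S, s * u * s⁻¹ = x := by
  obtain ⟨s, hs, hse⟩ := d.exists_conj_u ((d.mem_core.mp hx).resolve_left hxK)
  rw [mul_assoc x, d.sq_u, mul_one] at hse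
  exact ⟨s, hs, hse⟩

theorem C_of_mem [Finite G] {x : G} (hx : x ∈ core K u) (hxK : x ∉ K) : x ∈ C := by
  obtain ⟨s, hs, rfl⟩ := d.exists_conj_outer hx hxK
  exact d.conj_mem s (d.le hs) u d.u_C

/-- The elements of `S` centralising some `k * u` lie in `R`. -/
theorem mem_core_of_commute [Finite G] {s x : G} (hs : s ∈ S) (hx : x ∈ core K u) (hxK : x ∉ K)
    (hc : Commute s x) : s ∈ core K u := by
  obtain ⟨t, ht, rfl⟩ := d.exists_conj_outer hx hxK
  have hc' : Commute (t⁻¹ * s * t) u := by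
    have := hc.map (MulAut.conj t⁻¹).toMonoidHom
    simpa [mul_assoc] using this
  have hmem := d.mem_core.mpr (d.cent_u _ (mul_mem (mul_mem (inv_mem ht) hs) ht) hc')
  have := d.conj_mem_core ht hmem
  rwa [show t * (t⁻¹ * s * t) * t⁻¹ = s by group] at this

theorem mem_K_of_commute [Finite G] {s x : G} (hs : s ∈ S) (hsR : s ∉ core K u)
    (hx : x ∈ core K u) (hc : Commute s x) : x ∈ K :=
  by_contra fun hxK => hsR (d.mem_core_of_commute hs hx hxK hc)

theorem mem_core_of_cent_E {s : G} (hs : s ∈ S) (hc : ∀ e ∈ E, Commute s e) : s ∈ core K u :=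
  d.mem_core.mpr (d.cent_E s hs hc)

theorem sq_mem_K [Finite G] {s : G} (hs : s ∈ S) (h2 : s * s ∈ core K u) : s * s ∈ K := by
  by_cases hsR : s ∈ core K u
  · exact d.sq_core hsR
  · exact d.mem_K_of_commute hs hsR h2 ((Commute.refl s).mul_right (Commute.refl s))

/-- Two involutions of `S` outside `R` congruent modulo `R` are congruent modulo `K`. -/
theorem mul_mem_K [Finite G] {v x : G} (hv : v ∈ S) (hvR : v ∉ core K u) (hv2 : v * v = 1)
    (hx : x ∈ core K u) (hvx : v * x * (v * x) = 1) : x ∈ K := by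
  by_contra hxK
  refine hvR (d.mem_core_of_commute hv hx hxK ?_)
  have h2 : v * x * v = x := by
    have h3 : v * x * v = x⁻¹ := eq_inv_of_mul_eq_one_left (by
      rw [mul_assoc (v * x)]; exact hvx)
    rwa [inv_eq_of_mul_eq_one_right (d.sq_outer hx hxK)] at h3
  calc v * x = v * x * (v * v) := by rw [hv2, mul_one]
    _ = v * x * v * v := by group
    _ = x * v := by rw [h2]

end EightData

/-- A chief series of `E` under `S`. -/
structure Flag (S E : Subgroup G) (e₀ c f : G) : Prop where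
  e₀_mem : e₀ ∈ E
  c_mem : c ∈ E
  f_mem : f ∈ E
  e₀_ne : e₀ ≠ 1
  c_ne : c ≠ 1
  c_ne' : c ≠ e₀
  f_notMem : f ≠ 1 ∧ f ≠ e₀ ∧ f ≠ c ∧ f ≠ c * e₀
  fix : ∀ s ∈ S, s * e₀ * s⁻¹ = e₀
  move : ∀ s ∈ S, s * c * s⁻¹ = c ∨ s * c * s⁻¹ = c * e₀
  top : ∀ e ∈ E, (e = 1 ∨ e = e₀ ∨ e = c ∨ e = c * e₀) ∨
    (e * f = 1 ∨ e * f = e₀ ∨ e * f = c ∨ e * f = c * e₀)
  shift : ∀ s ∈ S, s * f * s⁻¹ * f = 1 ∨ s * f * s⁻¹ * f = e₀ ∨ s * f * s⁻¹ * f = c ∨
    s * f * s⁻¹ * f = c * e₀

theorem EightData.exists_flag [Finite G] {H S K E : Subgroup G} {u : G} {C : Set G}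
    (d : EightData H S K E u C) : ∃ e₀ c f : G, Flag S E e₀ c f := by
  classical
  haveI : Fact (Nat.Prime 2) := ⟨Nat.prime_two⟩
  haveI hEn : (E.subgroupOf S).Normal := normal_subgroupOf_of_le_normalizer d.normE
  have hcard : Nat.card (E.subgroupOf S) = 8 := by
    rw [Nat.card_congr (subgroupOfEquivOfLe d.E_le_S).toEquiv, d.card_E]
  obtain ⟨M₁, hM₁n, -, hM₁E, hM₁⟩ := PGroups.exists_normal_card_pow_mul d.two ⊥ (E.subgroupOf S)
    bot_le 1 (by rw [card_bot, hcard]; norm_num)
  haveI := hM₁n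
  rw [card_bot] at hM₁
  norm_num at hM₁
  obtain ⟨M₂, hM₂n, hM₁₂, hM₂E, hM₂⟩ := PGroups.exists_normal_card_pow_mul d.two M₁
    (E.subgroupOf S) hM₁E 1 (by rw [hM₁, hcard]; norm_num)
  rw [hM₁] at hM₂
  norm_num at hM₂
  set L := M₁.map S.subtype with hL
  set P := M₂.map S.subtype with hP
  have hLc : Nat.card L = 2 := by rw [hL, card_map_of_injective S.subtype_injective, hM₁]
  have hPc : Nat.card P = 4 := by rw [hP, card_map_of_injective S.subtype_injective, hM₂]
  have hLP : L ≤ P := Subgroup.map_mono hM₁₂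
  have hPE : P ≤ E := by
    rintro _ ⟨x, hx, rfl⟩
    exact hM₂E hx
  have hnorm : ∀ {M : Subgroup S}, M.Normal → ∀ s ∈ S, ∀ x ∈ M.map S.subtype,
      s * x * s⁻¹ ∈ M.map S.subtype := by
    rintro M hM s hs _ ⟨x, hx, rfl⟩
    exact ⟨⟨s, hs⟩ * x * ⟨s, hs⟩⁻¹, hM.conj_mem x hx _, rfl⟩
  obtain ⟨e₀, he₀, he₀1⟩ := (bot_or_exists_ne_one L).resolve_left fun h => by
    rw [h, card_bot] at hLc; omega
  have hL2 : ∀ x ∈ L, x = 1 ∨ x = e₀ := by
    intro x hx
    by_contra hc
    push Not at hc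
    have hsub : ({1, e₀, x} : Set G) ⊆ (L : Set G) := by
      simp [Set.insert_subset_iff, L.one_mem, he₀, hx]
    have := Set.ncard_le_ncard hsub (Set.toFinite _)
    have h3 : ({1, e₀, x} : Set G).ncard = 3 := by
      rw [Set.ncard_insert_of_notMem (by simp [Ne.symm he₀1, Ne.symm hc.1]),
        Set.ncard_pair (Ne.symm hc.2)]
    have h2 : (L : Set G).ncard = 2 := hLc
    omega
  obtain ⟨c, hc, hcL⟩ := SetLike.exists_of_lt (lt_of_le_of_ne hLP fun h => by
    rw [h] at hLc; omega)
  have hsq : ∀ x ∈ P, x * x = 1 := fun x hx => d.sq x (hPE hx)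
  have hc1 : c ≠ 1 := fun h => hcL (h ▸ L.one_mem)
  have hce : c ≠ e₀ := fun h => hcL (h ▸ he₀)
  have hP4 : ∀ x, x ∈ P → x = 1 ∨ x = e₀ ∨ x = c ∨ x = c * e₀ := by
    intro x hx
    by_contra hn
    push Not at hn
    have h3 : c * e₀ ∈ P := P.mul_mem hc (hLP he₀)
    have hne1 : c * e₀ ≠ 1 := fun h => hce (mul_right_cancel (h.trans (hsq _ (hLP he₀)).symm))
    have hne2 : c * e₀ ≠ e₀ := fun h => hc1 (mul_eq_right.mp h)
    have hne3 : c * e₀ ≠ c := fun h => he₀1 (mul_eq_left.mp h)
    have hsub : ({1, e₀, c, c * e₀, x} : Set G) ⊆ (P : Set G) := by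
      simp [Set.insert_subset_iff, P.one_mem, hLP he₀, hc, h3, hx]
    have := Set.ncard_le_ncard hsub (Set.toFinite _)
    have h5 : ({1, e₀, c, c * e₀, x} : Set G).ncard = 5 := by
      rw [Set.ncard_insert_of_notMem (by simp [Ne.symm he₀1, Ne.symm hc1, Ne.symm hne1, Ne.symm hn.1]),
        Set.ncard_insert_of_notMem (by simp [Ne.symm hce, Ne.symm hne2, Ne.symm hn.2.1]),
        Set.ncard_insert_of_notMem (by simp [Ne.symm hne3, Ne.symm hn.2.2.1]),
        Set.ncard_pair (Ne.symm hn.2.2.2)]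
    have h4 : (P : Set G).ncard = 4 := hPc
    omega
  obtain ⟨f, hf, hfP⟩ := SetLike.exists_of_lt (lt_of_le_of_ne hPE fun h => by
    have := congrArg (fun K : Subgroup G => Nat.card K) h
    simp only [hPc, d.card_E] at this
    omega)
  have htop : ∀ e ∈ E, e ∈ P ∨ e * f ∈ P := by
    intro e he
    have hidx : (P.subgroupOf E).index = 2 := by
      have h1 := (P.subgroupOf E).card_mul_index
      rw [Nat.card_congr (subgroupOfEquivOfLe hPE).toEquiv, hPc, d.card_E] at h1
      omega
    have h2 := mul_mem_iff_of_index_two hidx (a := ⟨e, he⟩) (b := ⟨f, hf⟩)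
    simp only [mem_subgroupOf, coe_mul] at h2
    tauto
  refine ⟨e₀, c, f, hPE (hLP he₀), hPE hc, hf, he₀1, hc1, hce,
    ⟨fun h => hfP (h ▸ P.one_mem), fun h => hfP (h ▸ hLP he₀), fun h => hfP (h ▸ hc),
      fun h => hfP (h ▸ P.mul_mem hc (hLP he₀))⟩, fun s hs => ?_, fun s hs => ?_,
    fun e he => (htop e he).imp (hP4 e) (hP4 _), fun s hs => hP4 _ ?_⟩
  · rcases hL2 _ (hnorm hM₁n s hs e₀ he₀) with h | h
    · exact absurd (conj_eq_one_iff.mp h) he₀1
    · exact h
  · have hm := hnorm hM₂n s hs c hc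
    rcases hP4 _ hm with h | h | h | h
    · exact absurd (conj_eq_one_iff.mp h) hc1
    · exfalso
      apply hcL
      have h2 := hnorm hM₁n s⁻¹ (inv_mem hs) _ (h ▸ he₀ : s * c * s⁻¹ ∈ L)
      rwa [inv_inv, show s⁻¹ * (s * c * s⁻¹) * s = c by group] at h2
    · exact Or.inl h
    · exact Or.inr h
  · rcases htop _ (d.conj_E hs hf) with h | h
    · exfalso
      apply hfP
      have h2 := hnorm hM₂n s⁻¹ (inv_mem hs) _ h
      rwa [inv_inv, show s⁻¹ * (s * f * s⁻¹) * s = f by group] at h2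
    · exact h

end Cfsg.Agent.H74.Asch
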