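import Cfsg.Agent.H74.Asch.EightTarget
import Cfsg.Agent.H1.Asch.Transfer

/-!
The residue `q = 8`: the transfer into a Sylow `2`-subgroup above `S` keeps `u` outside the
commutator subgroup.
-/

set_option autoImplicit false
set_option linter.style.haveILetI false

namespace Cfsg.Agent.H74.Asch

open Subgroup
open scoped commutatorElement

universe u

variable {G : Type u} [Group G] [Finite G]

namespace EightData

variable {H S K E : Subgroup G} {u : G} {C : Set G} (d : EightData H S K E u C)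
include d

/-- The structure of the normaliser of `S` in a `2`-subgroup `S'` of `H`, and `S'` equals it. -/
theorem exists_target {e₀ c f : G} (F : Flag S E e₀ c f) {S' : Subgroup G} (hS' : IsPGroup 2 S')
    (hS'H : S' ≤ H) (hSS' : S ≤ S') :
    (∀ v ∈ C, v ∈ S' → v ∈ S) ∧ (∀ a ∈ S', ∀ x ∈ genGroup S C, a * x * a⁻¹ ∈ genGroup S C) ∧
      ∀ a ∈ S', ∀ b ∈ S', ⁅a, b⁆ ∈ genGroup S C := by
  haveI : Fact (Nat.Prime 2) := ⟨Nat.prime_two⟩
  set N₁ := S' ⊓ normalizer (S : Set G) with hN₁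
  have hN₁iff : ∀ {y}, y ∈ N₁ → ∀ s, s ∈ S ↔ y * s * y⁻¹ ∈ S := fun hy s =>
    mem_normalizer_iff.mp (mem_inf.mp hy).2 s
  have hnormR : ∀ {y}, y ∈ S' → y ∈ normalizer ((core K u : Subgroup G) : Set G) → y ∈ S :=
    fun {y} hy hyn => d.max (S' ⊓ normalizer ((core K u : Subgroup G) : Set G))
      (hS'.to_le inf_le_left) (inf_le_left.trans hS'H) (le_inf hSS' d.normal_core) inf_le_right
      ⟨hy, hyn⟩
  have hswaps : ∀ {y}, y ∈ N₁ → y ∉ S → Swaps H S K u y := fun {y} hy hyS =>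
    ⟨hS'H (mem_inf.mp hy).1, hN₁iff hy, fun hn => hyS (hnormR (mem_inf.mp hy).1 hn)⟩
  have hCS : ∀ v ∈ C, v ∈ N₁ → v ∈ S := fun v hv hvN => by
    by_contra hvS
    exact d.swap_notMem F (hswaps hvN hvS) hv
  -- `S'` normalises `S`
  have hSN₁ : S ≤ N₁ := le_inf hSS' le_normalizer
  have hN₁S' : S' ≤ N₁ := by
    have hgrow : ∀ h ∈ S', (∀ y, y ∈ N₁ → h * y * h⁻¹ ∈ N₁) → h ∈ N₁ := by
      intro h hh hhN
      by_cases hall : ∀ y ∈ N₁, y ∈ S
      · exact mem_inf.mpr ⟨hh, mem_normalizer_of_conj_le fun s hs => hall _ (hhN s (hSN₁ hs))⟩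
      push Not at hall
      obtain ⟨g, hg, hgS⟩ := hall
      have hsw := hswaps hg hgS
      have hKE := d.swap_K_eq F hsw
      obtain ⟨hvC, hvS, hvR, hmem⟩ := d.swap_v F hsw
      obtain ⟨hm1, hm2⟩ := d.swap_maps F hsw
      set v := h * u * h⁻¹
      have hvC' : v ∈ C := d.conj_mem h (hS'H hh) u d.u_C
      have hvN : v ∈ N₁ := hhN u (hSN₁ d.u_mem)
      have hvS' : v ∈ S := hCS v hvC' hvN
      have hcent : ∀ y ∈ N₁, Commute y v → y ∈ S := by
        intro y hy hyv
        by_contra hyS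
        have hswy := hswaps hy hyS
        obtain ⟨-, hwS, hwR, hmemy⟩ := d.swap_v F hswy
        obtain ⟨-, hm2y⟩ := d.swap_maps F hswy
        have hfix : y * v * y⁻¹ = v := mul_inv_eq_iff_eq_mul.mpr hyv.eq
        by_cases hvR' : v ∈ core K u
        · have h1 := hmemy v hvR'
          rw [hfix] at h1
          exact d.notMem v hvC' (d.E_le (d.plane_mem F
            (d.second_inf_core F hKE (d.conj_mem y hswy.mem u d.u_C) hwS hwR hvR' h1)))
        · have h1 := hm2y v (d.conj_mem_second F hKE (d.conj_mem y hswy.mem u d.u_C) hwS hwR hvC'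
            hvS' hvR')
          rw [hfix] at h1
          exact hvR' h1
      have himg : ∀ x ∈ core K u, h * x * h⁻¹ ∈ S ∧ Commute (h * x * h⁻¹) v := fun x hx => by
        have hc : Commute (h * x * h⁻¹) v :=
          (d.commute_core hKE hx d.u_mem_core).map (MulAut.conj h).toMonoidHom
        exact ⟨hcent _ (hhN x (hSN₁ (d.core_le hx))) hc, hc⟩
      by_cases hvR' : v ∈ core K u
      · exact hSN₁ (hnormR hh (mem_normalizer_of_conj_le fun x hx =>
          d.mem_core_of_commute (himg x hx).1 hvR' (d.notMem v hvC') (himg x hx).2))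
      have hgh : g⁻¹ * h ∈ S := hnormR (mul_mem (inv_mem (mem_inf.mp hg).1) hh)
        (mem_normalizer_of_conj_le fun x hx => by
          have := hm1 _ (d.second_eq F hKE hvC hvS hvR hvC' hvS' hvR' (himg x hx).1 (himg x hx).2)
          rwa [show g⁻¹ * (h * x * h⁻¹) * g = g⁻¹ * h * x * (g⁻¹ * h)⁻¹ by group] at this)
      have := mul_mem hg (hSN₁ hgh)
      rwa [mul_inv_cancel_left] at this
    by_contra hne
    have hne' : N₁.subgroupOf S' ≠ ⊤ := fun e => hne (subgroupOf_eq_top.mp e)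
    obtain ⟨h, hh, hhn⟩ := SetLike.exists_of_lt (PGroups.lt_normalizer hS' hne')
    refine hhn (hgrow h h.2 fun y hy => ?_)
    exact (mem_normalizer_iff.mp hh ⟨y, (mem_inf.mp hy).1⟩).mp hy
  refine ⟨fun v hv hvS' => hCS v hv (hN₁S' hvS'), fun a ha x hx => d.conj_gen (hS'H ha)
    (fun s hs => (hN₁iff (hN₁S' ha) s).mp hs) hx, ?_⟩
  set L := genGroup S C with hL
  have hconj : ∀ {a x}, a ∈ N₁ → x ∈ L → a * x * a⁻¹ ∈ L := fun {a x} ha hx =>
    d.conj_gen (hS'H (mem_inf.mp ha).1) (fun s hs => (hN₁iff ha s).mp hs) hx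
  by_cases hall : ∀ y ∈ N₁, y ∈ S
  · exact fun a ha b hb => d.commutator_mem_gen (hall a (hN₁S' ha)) (hall b (hN₁S' hb))
  push Not at hall
  obtain ⟨g, hg, hgS⟩ := hall
  have hsw := hswaps hg hgS
  have hKE := d.swap_K_eq F hsw
  obtain ⟨hvC, hvS, hvR, -⟩ := d.swap_v F hsw
  have hsplit : ∀ y ∈ N₁, y ∈ S ∨ g⁻¹ * y ∈ S := by
    intro y hy
    by_cases hyS : y ∈ S
    · exact Or.inl hyS
    refine Or.inr (hnormR (mul_mem (inv_mem (mem_inf.mp hg).1) (mem_inf.mp hy).1)
      (mem_normalizer_of_conj_le fun x hx => ?_))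
    obtain ⟨hwC, hwS, hwR, hmemy⟩ := d.swap_v F (hswaps hy hyS)
    obtain ⟨h1, h2⟩ := mem_inf.mp (hmemy x hx)
    have := (d.swap_maps F hsw).1 _
      (d.second_eq F hKE hvC hvS hvR hwC hwS hwR h1 (mem_centralizer_singleton_iff.mp h2))
    rwa [show g⁻¹ * (y * x * y⁻¹) * g = g⁻¹ * y * x * (g⁻¹ * y)⁻¹ by group] at this
  have h1 : ∀ a ∈ N₁, ∀ t ∈ S, ⁅a, t⁆ ∈ L := by
    intro a ha t ht
    rcases hsplit a ha with has | has
    · exact d.commutator_mem_gen has ht
    · set s := g⁻¹ * a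
      have e : ⁅a, t⁆ = g * ⁅s, t⁆ * g⁻¹ * ⁅g, t⁆ := by
        simp only [commutatorElement_def, s]; group
      rw [e]
      exact mul_mem (hconj hg (d.commutator_mem_gen has ht)) (d.swap_commutator F hsw ht)
  have h2 : ∀ a ∈ N₁, ∀ b ∈ S, ⁅b, a⁆ ∈ L := fun a ha b hb => by
    rw [← commutatorElement_inv]; exact inv_mem (h1 a ha b hb)
  have hgg : ∀ a ∈ N₁, ⁅g, a⁆ ∈ L := by
    intro a ha
    rcases hsplit a ha with has | has
    · exact h1 g hg a has
    · set s := g⁻¹ * a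
      have e : ⁅g, a⁆ = g * ⁅g, s⁆ * g⁻¹ := by simp only [commutatorElement_def, s]; group
      rw [e]
      exact hconj hg (h1 g hg s has)
  intro a ha b hb
  rcases hsplit a (hN₁S' ha) with has | has
  · exact h2 b (hN₁S' hb) a has
  · set s := g⁻¹ * a
    have e : ⁅a, b⁆ = g * ⁅s, b⁆ * g⁻¹ * ⁅g, b⁆ := by
      simp only [commutatorElement_def, s]; group
    rw [e]
    exact mul_mem (hconj hg (h2 b (hN₁S' hb) s has)) (hgg b (hN₁S' hb))

/-- **The residue `q = 8`**: if `H` has odd index and contains `u`, all of whose conjugates in `H`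
form `C`, then `u` lies outside the commutator subgroup. -/
theorem not_mem_commutator (hodd : Odd H.index)
    (hC : ∀ a : G, a⁻¹ * u * a ∈ H → a⁻¹ * u * a ∈ C) : u ∉ commutator G := by
  haveI : Fact (Nat.Prime 2) := ⟨Nat.prime_two⟩
  obtain ⟨e₀, c, f, F⟩ := d.exists_flag
  obtain ⟨P, hP⟩ := (d.two.comap_subtype (K := H)).exists_le_sylow
  set S' := (P : Subgroup H).map H.subtype with hS'
  have hS'H : S' ≤ H := map_subtype_le _
  have hSS' : S ≤ S' := fun s hs => ⟨⟨s, d.le hs⟩, hP hs, rfl⟩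
  obtain ⟨hCS, hconj, hcomm⟩ := d.exists_target F (P.isPGroup'.map H.subtype) hS'H hSS'
  have hidx : Odd S'.index := by
    rw [← Subgroup.relIndex_mul_index hS'H, Nat.odd_mul]
    refine ⟨?_, hodd⟩
    rw [relIndex, hS', subgroupOf, comap_map_eq_self_of_injective H.subtype_injective,
      ← Nat.not_even_iff_odd, even_iff_two_dvd]
    exact P.not_dvd_index
  have hnormal : ((genGroup S C).subgroupOf S').Normal :=
    ⟨fun x hx a => mem_subgroupOf.mpr (hconj a a.2 x (mem_subgroupOf.mp hx))⟩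
  have hcomm' : commutator S' ≤ (genGroup S C).subgroupOf S' := by
    rw [_root_.commutator_def]
    refine commutator_le.mpr fun a _ b _ => mem_subgroupOf.mpr ?_
    simpa [commutatorElement_def] using hcomm a a.2 b b.2
  refine (H1.Asch.not_mem_closure_of_coset hidx hnormal hcomm' (hSS' d.u_mem) d.sq_u
    (d.u_notMem_genGroup F) (fun a ha => ?_) (D := ∅) (fun z hz => hz.elim)
    (fun z hz => hz.elim)).2
  exact d.mem_gen_mul (hC a (hS'H ha)) (hCS _ (hC a (hS'H ha)) ha) d.u_C d.u_mem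

end EightData

end Cfsg.Agent.H74.Asch
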