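import Cfsg.Agent.H74.Asch.EightLocal

/-!
The residue `q = 8`: the centraliser `W` of the invariant plane, the squares of `S`, the two
classes of conjugates of `u` outside `R`, and `u` lies outside the group generated by the squares
and the products of two conjugates.
-/

set_option autoImplicit false
set_option linter.style.haveILetI false
set_option linter.unusedSectionVars false

namespace Cfsg.Agent.H74.Asch

open Subgroup
open scoped commutatorElement

universe u

variable {G : Type u} [Group G]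

/-- The members of the plane. -/
def InPlane (e₀ c x : G) : Prop := x = 1 ∨ x = e₀ ∨ x = c ∨ x = c * e₀

/-- The centraliser of the plane in `S`. -/
def planeCent (S : Subgroup G) (c : G) : Subgroup G := S ⊓ centralizer {c}

/-- The displacement of `f`. -/
def disp (f s : G) : G := s * f * s⁻¹ * f

/-- The squares of `S` and the products of two elements of `C` in `S`. -/
def genSet (S : Subgroup G) (C : Set G) : Set G :=
  {g | ∃ a ∈ C, ∃ b ∈ C, a ∈ S ∧ b ∈ S ∧ g = a * b} ∪ {g | ∃ s ∈ S, g = s * s}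

/-- The group generated by them. -/
def genGroup (S : Subgroup G) (C : Set G) : Subgroup G := closure (genSet S C)

namespace EightData

variable {H S K E : Subgroup G} {u : G} {C : Set G} (d : EightData H S K E u C)
  {e₀ c f : G} (F : Flag S E e₀ c f)
include d F

theorem plane_mem {x : G} (hx : InPlane e₀ c x) : x ∈ E := by
  rcases hx with rfl | rfl | rfl | rfl
  · exact E.one_mem
  · exact F.e₀_mem
  · exact F.c_mem
  · exact E.mul_mem F.c_mem F.e₀_mem

theorem plane_mul {x y : G} (hx : InPlane e₀ c x) (hy : InPlane e₀ c y) :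
    InPlane e₀ c (x * y) := by
  have h1 : e₀ * e₀ = 1 := d.sq e₀ F.e₀_mem
  have h2 : c * c = 1 := d.sq c F.c_mem
  have h3 : e₀ * c = c * e₀ := (d.commute_E F.e₀_mem F.c_mem).eq
  have h4 : ∀ z, c * (c * z) = z := fun z => by rw [← mul_assoc, h2, one_mul]
  have h5 : ∀ z, e₀ * (e₀ * z) = z := fun z => by rw [← mul_assoc, h1, one_mul]
  have h6 : ∀ z, e₀ * (c * z) = c * (e₀ * z) := fun z => by rw [← mul_assoc, h3, mul_assoc]
  rcases hx with rfl | rfl | rfl | rfl <;> rcases hy with rfl | rfl | rfl | rfl <;>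
    simp [InPlane, mul_assoc, h1, h2, h3, h4, h5, h6]

theorem mem_W {s : G} : s ∈ planeCent S c ↔ s ∈ S ∧ s * c * s⁻¹ = c := by
  rw [planeCent, mem_inf, mem_centralizer_singleton_iff, mul_inv_eq_iff_eq_mul]

theorem flip {s : G} (hs : s ∈ S) (hsW : s ∉ planeCent S c) : s * c * s⁻¹ = c * e₀ :=
  (F.move s hs).resolve_left fun h => hsW ((d.mem_W F).mpr ⟨hs, h⟩)

theorem fix_plane {w x : G} (hw : w ∈ planeCent S c) (hx : InPlane e₀ c x) :
    w * x * w⁻¹ = x := by
  obtain ⟨hwS, hwc⟩ := (d.mem_W F).mp hw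
  rcases hx with rfl | rfl | rfl | rfl
  · group
  · exact F.fix w hwS
  · exact hwc
  · rw [← conj_mul, hwc, F.fix w hwS]

theorem conj_plane {s x : G} (hs : s ∈ S) (hx : InPlane e₀ c x) :
    InPlane e₀ c (s * x * s⁻¹) := by
  by_cases hsW : s ∈ planeCent S c
  · rwa [d.fix_plane F hsW hx]
  · have h1 := d.flip F hs hsW
    rcases hx with rfl | rfl | rfl | rfl
    · left; group
    · right; left; exact F.fix s hs
    · right; right; right; exact h1
    · right; right; left
      rw [← conj_mul, h1, F.fix s hs, mul_assoc, d.sq _ F.e₀_mem, mul_one]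

theorem mul_mem_W {s t : G} (hs : s ∈ S) (hsW : s ∉ planeCent S c) (ht : t ∈ S)
    (htW : t ∉ planeCent S c) : s * t ∈ planeCent S c := by
  refine (d.mem_W F).mpr ⟨mul_mem hs ht, ?_⟩
  rw [show s * t * c * (s * t)⁻¹ = s * (t * c * t⁻¹) * s⁻¹ by group, d.flip F ht htW, ← conj_mul,
    d.flip F hs hsW, F.fix s hs, mul_assoc, d.sq _ F.e₀_mem, mul_one]

theorem conj_mem_W {s w : G} (hs : s ∈ S) (hw : w ∈ planeCent S c) :
    s * w * s⁻¹ ∈ planeCent S c := by
  have hwS := ((d.mem_W F).mp hw).1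
  refine (d.mem_W F).mpr ⟨mul_mem (mul_mem hs hwS) (inv_mem hs), ?_⟩
  have h := d.fix_plane F hw (d.conj_plane F (inv_mem hs) (Or.inr (Or.inr (Or.inl rfl))))
  calc s * w * s⁻¹ * c * (s * w * s⁻¹)⁻¹ = s * (w * (s⁻¹ * c * s⁻¹⁻¹) * w⁻¹) * s⁻¹ := by group
    _ = _ := by rw [h]; group

theorem disp_plane {s : G} (hs : s ∈ S) : InPlane e₀ c (disp f s) := F.shift s hs

theorem inv_f : f⁻¹ = f := d.inv_E F.f_mem

theorem disp_mul (s t : G) : disp f (s * t) = s * disp f t * s⁻¹ * disp f s := by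
  simp only [disp]
  calc s * t * f * (s * t)⁻¹ * f = s * (t * f * t⁻¹ * f) * f⁻¹ * s⁻¹ * f := by group
    _ = s * (t * f * t⁻¹ * f) * s⁻¹ * (s * f⁻¹ * s⁻¹ * f) := by group
    _ = _ := by rw [d.inv_f F]

theorem disp_mul_W {w t : G} (hw : w ∈ planeCent S c) (ht : t ∈ S) :
    disp f (w * t) = disp f t * disp f w := by
  rw [d.disp_mul F, d.fix_plane F hw (d.disp_plane F ht)]

theorem disp_conj {s w : G} (hs : s ∈ S) (hw : w ∈ planeCent S c) :
    disp f (s * w * s⁻¹) = s * disp f w * s⁻¹ := by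
  have hwS := ((d.mem_W F).mp hw).1
  have h1 : disp f (s * w * s⁻¹) * disp f s = s * disp f w * s⁻¹ * disp f s := by
    rw [← d.disp_mul F s w]
    conv_rhs => rw [show s * w = s * w * s⁻¹ * s by group]
    rw [d.disp_mul_W F (d.conj_mem_W F hs hw) hs]
    exact (d.commute_E (d.plane_mem F (d.disp_plane F (mul_mem (mul_mem hs hwS) (inv_mem hs))))
      (d.plane_mem F (d.disp_plane F hs))).eq
  exact mul_right_cancel h1

theorem mem_W_of_mem_core {x : G} (hx : x ∈ core K u) : x ∈ planeCent S c :=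
  (d.mem_W F).mpr ⟨d.core_le hx, by
    rw [(d.commute_core_E hx F.c_mem).eq, mul_inv_cancel_right]⟩

theorem disp_core {x : G} (hx : x ∈ core K u) : disp f x = 1 := by
  rw [disp, (d.commute_core_E hx F.f_mem).eq, mul_inv_cancel_right, d.sq f F.f_mem]

theorem mem_core_of_disp {w : G} (hw : w ∈ planeCent S c) (h : disp f w = 1) :
    w ∈ core K u := by
  have hf : w * f * w⁻¹ = f := by
    rw [disp] at h
    rw [eq_inv_of_mul_eq_one_left h, d.inv_f F]
  refine d.mem_core_of_cent_E ((d.mem_W F).mp hw).1 fun e he => ?_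
  have hfc : Commute w f := mul_inv_eq_iff_eq_mul.mp hf
  rcases F.top e he with h1 | h1
  · exact mul_inv_eq_iff_eq_mul.mp (d.fix_plane F hw h1)
  · have h2 : Commute w (e * f) := mul_inv_eq_iff_eq_mul.mp (d.fix_plane F hw h1)
    have h3 := h2.mul_right hfc
    rwa [mul_assoc, d.sq f F.f_mem, mul_one] at h3

theorem card_W [Finite G] :
    Nat.card (planeCent S c) = 8 * Nat.card K ∧
      ∀ p, InPlane e₀ c p → ∃ w ∈ planeCent S c, disp f w = p := by
  classical
  let P : Subgroup G :=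
    { carrier := {x | InPlane e₀ c x}
      one_mem' := Or.inl rfl
      mul_mem' := fun {x y} hx hy => d.plane_mul F hx hy
      inv_mem' := fun {x} hx => by
        show InPlane e₀ c x⁻¹
        rwa [d.inv_E (d.plane_mem F hx)] }
  have hPc : Nat.card P ≤ 4 := by
    refine le_trans (Nat.card_le_card_of_surjective
      (fun i : Fin 4 => (⟨![1, e₀, c, c * e₀] i, by
        fin_cases i <;> simp [P, InPlane]⟩ : P)) ?_) (by simp)
    rintro ⟨x, hx⟩
    rcases hx with h | h | h | h
    · exact ⟨0, Subtype.ext h.symm⟩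
    · exact ⟨1, Subtype.ext h.symm⟩
    · exact ⟨2, Subtype.ext h.symm⟩
    · exact ⟨3, Subtype.ext h.symm⟩
  set W := planeCent S c
  have hW2 : 2 * Nat.card W ≥ Nat.card S := by
    by_cases hall : ∀ s ∈ S, s ∈ W
    · have := card_le_of_le (H := S) (K := W) hall
      omega
    push Not at hall
    obtain ⟨a, ha, haW⟩ := hall
    let g : S → W × Bool := fun s => if hs : (s : G) ∈ W then (⟨s, hs⟩, true) else
      (⟨a * s, d.mul_mem_W F ha haW s.2 hs⟩, false)
    have hg : Function.Injective g := by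
      intro s t h
      simp only [g] at h
      split_ifs at h with h1 h2 h2 <;> simp at h
      · exact h
      · exact h
    have := Nat.card_le_card_of_injective g hg
    rw [Nat.card_prod, Nat.card_eq_fintype_card (α := Bool), Fintype.card_bool] at this
    omega
  have hker : Nat.card (W ⊓ centralizer {f} : Subgroup G) ≤ 2 * Nat.card K := by
    rw [← d.card_core]
    refine card_le_of_le fun w hw => d.mem_core_of_disp F hw.1 ?_
    rw [disp, mem_centralizer_singleton_iff.mp hw.2, mul_inv_cancel_right, d.sq f F.f_mem]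
  obtain ⟨hle, hsurj⟩ := H51.Asch.card_le_centralized_mul (K := W) (T := P) f fun w hw => by
    rw [commutatorElement_def, d.inv_f F]
    exact d.disp_plane F ((d.mem_W F).mp hw).1
  have hbound := hle.trans (Nat.mul_le_mul hker hPc)
  have hS := d.card_S
  refine ⟨le_antisymm (by linarith) (by omega), fun p hp => ?_⟩
  obtain ⟨w, hw, hwp⟩ := hsurj ((Nat.mul_le_mul hker hPc).trans (by omega)) p hp
  refine ⟨w, hw, ?_⟩
  rw [commutatorElement_def, d.inv_f F] at hwp
  exact hwp

theorem exists_notMem_W [Finite G] : ∃ s ∈ S, s ∉ planeCent S c := by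
  by_contra h
  push Not at h
  have h1 := card_le_of_le (H := S) (K := planeCent S c) h
  rw [(d.card_W F).1, d.card_S] at h1
  have : 0 < Nat.card K := Nat.card_pos
  omega

/-- Elements moving `c` and moving `f` out of `f * e₀`. -/
theorem exists_rot [Finite G] :
    ∃ r ∈ S, r ∉ planeCent S c ∧ (disp f r = c ∨ disp f r = c * e₀) := by
  obtain ⟨r, hr, hrW⟩ := d.exists_notMem_W F
  by_cases h : disp f r = c ∨ disp f r = c * e₀
  · exact ⟨r, hr, hrW, h⟩
  obtain ⟨w, hw, hwc⟩ := (d.card_W F).2 c (Or.inr (Or.inr (Or.inl rfl)))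
  have hwS := ((d.mem_W F).mp hw).1
  refine ⟨r * w, mul_mem hr hwS, fun hm => hrW ?_, ?_⟩
  · have := mul_mem hm (inv_mem hw)
    rwa [mul_inv_cancel_right] at this
  · rw [d.disp_mul F, hwc, d.flip F hr hrW]
    rcases d.disp_plane F hr with h1 | h1 | h1 | h1
    · rw [h1, mul_one]; exact Or.inr rfl
    · rw [h1, mul_assoc, d.sq _ F.e₀_mem, mul_one]; exact Or.inl rfl
    · exact absurd (Or.inl h1) h
    · exact absurd (Or.inr h1) h

theorem disp_sq_W {w : G} (hw : w ∈ planeCent S c) : disp f (w * w) = 1 := by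
  rw [d.disp_mul_W F hw ((d.mem_W F).mp hw).1]
  exact d.sq _ (d.plane_mem F (d.disp_plane F ((d.mem_W F).mp hw).1))

theorem disp_sq_flat {s : G} (hs : s ∈ S) (h : disp f s = 1 ∨ disp f s = e₀) :
    disp f (s * s) = 1 := by
  rw [d.disp_mul F]
  rcases h with h | h <;> rw [h]
  · group
  · rw [F.fix s hs]; exact d.sq _ F.e₀_mem

theorem disp_sq_rot {s : G} (hs : s ∈ S) (hsW : s ∉ planeCent S c)
    (h : disp f s = c ∨ disp f s = c * e₀) : disp f (s * s) = e₀ := by
  rw [d.disp_mul F]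
  rcases h with h | h <;> rw [h]
  · rw [d.flip F hs hsW, mul_assoc, (d.commute_E F.e₀_mem F.c_mem).eq, ← mul_assoc,
      d.sq c F.c_mem, one_mul]
  · rw [← conj_mul, d.flip F hs hsW, F.fix s hs, mul_assoc (c * e₀), mul_assoc c, ← mul_assoc e₀ c,
      (d.commute_E F.e₀_mem F.c_mem).eq, mul_assoc c e₀ e₀, d.sq _ F.e₀_mem, mul_one,
      ← mul_assoc, mul_assoc c, (d.commute_E F.e₀_mem F.c_mem).eq, ← mul_assoc, d.sq c F.c_mem,
      one_mul]

theorem flat_cases {w y : G} (hw : w ∈ planeCent S c) (hy : y ∈ planeCent S c)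
    (hyd : disp f y = e₀) (h : disp f w = 1 ∨ disp f w = e₀) :
    w ∈ core K u ∨ y⁻¹ * w ∈ core K u := by
  rcases h with h | h
  · exact Or.inl (d.mem_core_of_disp F hw h)
  · refine Or.inr (d.mem_core_of_disp F (mul_mem (inv_mem hy) hw) ?_)
    have h1 := d.disp_mul_W F hy (mul_mem (inv_mem ((d.mem_W F).mp hy).1) ((d.mem_W F).mp hw).1)
    rw [mul_inv_cancel_left, h, hyd] at h1
    exact mul_eq_right.mp h1.symm

theorem sq_congr [Finite G] {t x : G} (ht : t ∈ S) (hx : x ∈ core K u) :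
    (t * t)⁻¹ * (t * x * (t * x)) ∈ K := by
  have e : (t * t)⁻¹ * (t * x * (t * x)) = ⁅t⁻¹, x⁆ * (x * x) := by
    rw [commutatorElement_def]; group
  rw [e]
  exact K.mul_mem (d.commutator_core (inv_mem ht) hx) (d.sq_core hx)

/-- The subgroup `K ∪ y K`, `y` the square of a rotation, and its properties. -/
theorem exists_phi [Finite G] : ∃ Φ : Subgroup G, ∃ y ∈ planeCent S c, disp f y = e₀ ∧
    (∀ x, x ∈ Φ ↔ x ∈ K ∨ y⁻¹ * x ∈ K) ∧ Φ ≤ S ∧ (∀ s ∈ S, s * s ∈ Φ) ∧
    ∀ s ∈ S, ∀ x ∈ Φ, s * x * s⁻¹ ∈ Φ := by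
  obtain ⟨r, hr, hrW, hrd⟩ := d.exists_rot F
  set y := r * r with hy
  have hyS : y ∈ S := mul_mem hr hr
  have hyW : y ∈ planeCent S c := d.mul_mem_W F hr hrW hr hrW
  have hyd : disp f y = e₀ := d.disp_sq_rot F hr hrW hrd
  have hyy : y * y ∈ K := d.sq_mem_K hyS (d.mem_core_of_disp F (mul_mem hyW hyW)
    (d.disp_sq_W F hyW))
  let Φ : Subgroup G :=
    { carrier := {x | x ∈ K ∨ y⁻¹ * x ∈ K}
      one_mem' := Or.inl K.one_mem
      mul_mem' := fun {a b} ha hb => by
        rcases ha with ha | ha <;> rcases hb with hb | hb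
        · exact Or.inl (K.mul_mem ha hb)
        · refine Or.inr ?_
          have e : y⁻¹ * (a * b) = y⁻¹ * a * y⁻¹⁻¹ * (y⁻¹ * b) := by group
          rw [e]
          exact K.mul_mem (d.conj_K (inv_mem hyS) ha) hb
        · exact Or.inr (by rw [← mul_assoc]; exact K.mul_mem ha hb)
        · refine Or.inl ?_
          have e : a * b = y * (y⁻¹ * a) * y⁻¹ * (y * y) * (y⁻¹ * b) := by group
          rw [e]
          exact K.mul_mem (K.mul_mem (d.conj_K hyS ha) hyy) hb
      inv_mem' := fun {a} ha => by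
        rcases ha with ha | ha
        · exact Or.inl (K.inv_mem ha)
        · refine Or.inr ?_
          have e : y⁻¹ * a⁻¹ = y⁻¹ * (y⁻¹ * a)⁻¹ * y⁻¹⁻¹ * (y * y)⁻¹ := by group
          rw [e]
          exact K.mul_mem (d.conj_K (inv_mem hyS) (K.inv_mem ha)) (K.inv_mem hyy) }
  have hmem : ∀ x, x ∈ Φ ↔ x ∈ K ∨ y⁻¹ * x ∈ K := fun x => Iff.rfl
  have hsq : ∀ s ∈ S, s * s ∈ Φ := by
    intro s hs
    by_cases hsW : s ∈ planeCent S c
    · exact (hmem _).mpr (Or.inl (d.sq_mem_K hs (d.mem_core_of_disp F (mul_mem hsW hsW)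
        (d.disp_sq_W F hsW))))
    have hssW := d.mul_mem_W F hs hsW hs hsW
    by_cases hflat : disp f s = 1 ∨ disp f s = e₀
    · exact (hmem _).mpr (Or.inl (d.sq_mem_K hs (d.mem_core_of_disp F hssW
        (d.disp_sq_flat F hs hflat))))
    have hsd : disp f s = c ∨ disp f s = c * e₀ := by
      rcases d.disp_plane F hs with h | h | h | h
      exacts [absurd (Or.inl h) hflat, absurd (Or.inr h) hflat, Or.inl h, Or.inr h]
    have hkW : r⁻¹ * s ∈ planeCent S c :=
      d.mul_mem_W F (inv_mem hr) (fun h => hrW (inv_mem_iff.mp h)) hs hsW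
    have hkd : disp f (r⁻¹ * s) = 1 ∨ disp f (r⁻¹ * s) = e₀ := by
      have h1 := d.disp_mul F r (r⁻¹ * s)
      rw [mul_inv_cancel_left] at h1
      have h2 : ¬ (r * disp f (r⁻¹ * s) * r⁻¹ = c ∨ r * disp f (r⁻¹ * s) * r⁻¹ = c * e₀) := by
        intro h3
        have hc2 := d.sq c F.c_mem
        have he2 := d.sq _ F.e₀_mem
        have hcm := (d.commute_E F.e₀_mem F.c_mem).eq
        apply hflat
        rw [h1]
        rcases h3 with h3 | h3 <;> rcases hrd with h4 | h4 <;> rw [h3, h4]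
        · exact Or.inl hc2
        · exact Or.inr (by rw [← mul_assoc, hc2, one_mul])
        · exact Or.inr (by rw [mul_assoc, hcm, ← mul_assoc, hc2, one_mul])
        · exact Or.inl (by rw [mul_assoc, ← mul_assoc e₀ c, hcm, mul_assoc c e₀ e₀, he2, mul_one, hc2])
      rcases d.disp_plane F (mul_mem (inv_mem hr) hs) with h | h | h | h
      · exact Or.inl h
      · exact Or.inr h
      · exact absurd (Or.inr (by rw [h, d.flip F hr hrW])) h2
      · refine absurd (Or.inl ?_) h2
        rw [h, ← conj_mul, d.flip F hr hrW, F.fix r hr, mul_assoc, d.sq _ F.e₀_mem, mul_one]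
    refine (hmem _).mpr (Or.inr ?_)
    rcases d.flat_cases F hkW hyW hyd hkd with h | h
    · have h1 := d.sq_congr F hr h
      rwa [mul_inv_cancel_left, ← hy] at h1
    · have h1 := d.sq_congr F (t := r * y) (mul_mem hr hyS) h
      rw [show r * y * (y⁻¹ * (r⁻¹ * s)) = s by group] at h1
      have e : y⁻¹ * (s * s) = y * y * ((r * y * (r * y))⁻¹ * (s * s)) := by
        rw [hy]; group
      rw [e]
      exact K.mul_mem hyy h1
  refine ⟨Φ, y, hyW, hyd, hmem, fun x hx => ?_, hsq, fun s hs x hx => ?_⟩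
  · rcases (hmem x).mp hx with h | h
    · exact d.K_le h
    · have := mul_mem hyS (d.K_le h)
      rwa [mul_inv_cancel_left] at this
  · rcases (hmem x).mp hx with h | h
    · exact (hmem _).mpr (Or.inl (d.conj_K hs h))
    · have e : s * x * s⁻¹ = s * r * s⁻¹ * (s * r * s⁻¹) * (s * (y⁻¹ * x) * s⁻¹) := by
        rw [hy]; group
      rw [e]
      exact Φ.mul_mem (hsq _ (mul_mem (mul_mem hs hr) (inv_mem hs)))
        ((hmem _).mpr (Or.inl (d.conj_K hs h)))

end EightData

end Cfsg.Agent.H74.Asch
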