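import Cfsg.Agent.H74.Asch.EightClass

/-!
The residue `q = 8`: a normaliser element of `S` fixes `R` unless `K = E`; then the conjugates of
`u` in `S` outside `R` lie in one elementary group `A`, and the elements swapping `R` and `A` are
no conjugates of `u`.
-/

set_option autoImplicit false
set_option linter.style.haveILetI false
set_option linter.unusedSectionVars false

namespace Cfsg.Agent.H74.Asch

open Subgroup
open scoped commutatorElement

universe u

variable {G : Type u} [Group G]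

/-- Counting with the commutators with `w`, into a set. -/
theorem card_le_centralized_mul_set [Finite G] {K : Subgroup G} {T : Set G} (w : G)
    (h : ∀ g ∈ K, ⁅g, w⁆ ∈ T) :
    Nat.card K ≤ Nat.card (K ⊓ centralizer {w} : Subgroup G) * Nat.card T ∧
      (Nat.card (K ⊓ centralizer {w} : Subgroup G) * Nat.card T ≤ Nat.card K →
        ∀ t ∈ T, ∃ g ∈ K, ⁅g, w⁆ = t) := by
  classical
  let r : T → G := fun t => if hh : ∃ g ∈ K, ⁅g, w⁆ = (t : G) then hh.choose else 1
  have hr : ∀ g ∈ K, ∀ t : T, ⁅g, w⁆ = (t : G) → (r t)⁻¹ * g ∈ K ⊓ centralizer {w} := by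
    intro g hg t ht
    have hex : ∃ g ∈ K, ⁅g, w⁆ = (t : G) := ⟨g, hg, ht⟩
    obtain ⟨h1, h2⟩ := hex.choose_spec
    simp only [r, dif_pos hex]
    refine ⟨K.mul_mem (inv_mem h1) hg, mem_centralizer_singleton_iff.mpr ?_⟩
    have e : g * w * g⁻¹ = hex.choose * w * hex.choose⁻¹ := by
      have := ht.trans h2.symm
      rw [commutatorElement_def, commutatorElement_def] at this
      exact mul_right_cancel this
    calc hex.choose⁻¹ * g * w = hex.choose⁻¹ * (g * w * g⁻¹) * g := by group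
      _ = w * (hex.choose⁻¹ * g) := by rw [e]; group
  let f : K → (K ⊓ centralizer {w} : Subgroup G) × T := fun g =>
    (⟨(r ⟨⁅(g : G), w⁆, h g g.2⟩)⁻¹ * g, hr g g.2 _ rfl⟩, ⟨⁅(g : G), w⁆, h g g.2⟩)
  have hf : Function.Injective f := by
    intro g g' e
    simp only [f, Prod.mk.injEq, Subtype.mk.injEq] at e
    obtain ⟨e1, e2⟩ := e
    simp only [e2] at e1
    exact Subtype.ext (mul_left_cancel e1)
  have hle := Nat.card_le_card_of_injective f hf
  rw [Nat.card_prod] at hle
  refine ⟨hle, fun hge t ht => ?_⟩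
  have hsurj := (Nat.bijective_iff_injective_and_card f).mpr
    ⟨hf, by rw [Nat.card_prod]; exact le_antisymm hle hge⟩
  obtain ⟨g, hg⟩ := hsurj.2 (1, ⟨t, ht⟩)
  exact ⟨g, g.2, congrArg (fun p => ((p.2 : T) : G)) hg⟩

/-- An element mapping a finite subgroup into itself normalises it. -/
theorem mem_normalizer_of_conj_le [Finite G] {L : Subgroup G} {g : G}
    (h : ∀ x ∈ L, g * x * g⁻¹ ∈ L) : g ∈ normalizer (L : Set G) := by
  have h1 : L.map (MulAut.conj g).toMonoidHom = L := eq_of_le_of_card_ge (by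
      rintro _ ⟨x, hx, rfl⟩; exact h x hx) (by
    rw [Subgroup.card_map_of_injective (f := (MulAut.conj g).toMonoidHom) (MulAut.conj g).injective])
  refine mem_normalizer_iff.mpr fun x => ⟨h x, fun hx => ?_⟩
  rw [← h1] at hx
  obtain ⟨y, hy, hyx⟩ := hx
  simp only [MulEquiv.coe_toMonoidHom, MulAut.conj_apply] at hyx
  rwa [← mul_left_cancel (mul_right_cancel hyx)]

/-- The eight points `1, u, f, u f` modulo the plane, and their products with conjugates. -/
def reps (u f : G) : Fin 4 → G := ![1, u, f, u * f]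

namespace EightData

variable {H S K E : Subgroup G} {u : G} {C : Set G} (d : EightData H S K E u C)
include d

/-- For `K ≠ E` the normaliser of `S` normalises `R`. -/
theorem mem_normalizer_core_of_roots [Finite G] (hroots : ∀ e ∈ E, ∃ k ∈ K, k * k = e) {g : G}
    (hgH : g ∈ H) (hgS : ∀ s, s ∈ S ↔ g * s * g⁻¹ ∈ S) :
    g ∈ normalizer ((core K u : Subgroup G) : Set G) := by
  have hconjK : ∀ {k s}, k ∈ K → s ∈ S → ∃ l ∈ K, s * (g * k * g⁻¹) * s⁻¹ = g * l * g⁻¹ := by
    intro k s hk hs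
    have hs' : g⁻¹ * s * g ∈ S := (hgS _).mpr (by simpa [mul_assoc] using hs)
    exact ⟨_, d.conj_K hs' hk, by group⟩
  have hS' : ∀ {k}, k ∈ K → g * k * g⁻¹ ∈ S := fun hk => (hgS _).mp (d.K_le hk)
  have hsq : ∀ {k}, k ∈ K → g * (k * k) * g⁻¹ ∈ K := by
    intro k hk
    have hR : g * k * g⁻¹ * (g * k * g⁻¹) ∈ core K u := by
      refine d.mem_core_of_cent_E (mul_mem (hS' hk) (hS' hk)) fun e he => ?_
      set a := g * k * g⁻¹ with ha
      set t := a * e * a⁻¹ * e with ht
      have htE : t ∈ E := E.mul_mem (d.conj_E (hS' hk) he) he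
      obtain ⟨l, hl, hle⟩ := hconjK (K.inv_mem hk) (d.E_le_S he)
      have hta : Commute a t := by
        have e1 : t = g * (k * l) * g⁻¹ := by
          have e2 : e * (g * k⁻¹ * g⁻¹) * e⁻¹ = g * l * g⁻¹ := hle
          rw [d.inv_E he] at e2
          calc t = g * k * g⁻¹ * (e * (g * k⁻¹ * g⁻¹) * e) := by rw [ht, ha]; group
            _ = _ := by rw [e2]; group
        rw [e1, ha]
        exact (d.commute_K hk (K.mul_mem hk hl)).map (MulAut.conj g).toMonoidHom
      have h1 : a * e * a⁻¹ = t * e := by rw [ht, mul_assoc _ e e, d.sq e he, mul_one]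
      refine mul_inv_eq_iff_eq_mul.mp ?_
      calc a * a * e * (a * a)⁻¹ = a * (a * e * a⁻¹) * a⁻¹ := by group
        _ = a * t * e * a⁻¹ := by rw [h1]; group
        _ = t * (a * e * a⁻¹) := by rw [hta.eq]; group
        _ = e := by rw [h1, ← mul_assoc, d.sq t htE, one_mul]
    have := d.sq_mem_K (hS' hk) hR
    rwa [show g * k * g⁻¹ * (g * k * g⁻¹) = g * (k * k) * g⁻¹ by group] at this
  have hgE : ∀ e ∈ E, g * e * g⁻¹ ∈ E := fun e he => by
    obtain ⟨k, hk, rfl⟩ := hroots e he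
    refine d.omega _ (hsq hk) ?_
    rw [show g * (k * k) * g⁻¹ * (g * (k * k) * g⁻¹) = g * (k * k * (k * k)) * g⁻¹ by group,
      d.sq _ he]
    group
  have hgEn := mem_normalizer_of_conj_le hgE
  have hcent : ∀ {x}, x ∈ S → (∀ e ∈ E, Commute x e) → g * x * g⁻¹ ∈ core K u := by
    intro x hx hxe
    refine d.mem_core_of_cent_E ((hgS _).mp hx) fun e he => ?_
    have h1 : g⁻¹ * e * g ∈ E := by
      have := (mem_normalizer_iff.mp (inv_mem hgEn) e).mp he
      rwa [inv_inv] at this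
    have := (hxe _ h1).map (MulAut.conj g).toMonoidHom
    simpa [mul_assoc] using this
  exact mem_normalizer_of_conj_le fun x hx => hcent (d.core_le hx) fun e he =>
    d.commute_core_E hx he

theorem sq_core_eq_one (hKE : K = E) {x : G} (hx : x ∈ core K u) : x * x = 1 := by
  by_cases hxK : x ∈ K
  · exact d.sq x (hKE ▸ hxK)
  · exact d.sq_outer hx hxK

theorem commute_core (hKE : K = E) {x y : G} (hx : x ∈ core K u) (hy : y ∈ core K u) :
    Commute x y := by
  have h := inv_eq_of_mul_eq_one_right (d.sq_core_eq_one hKE (mul_mem hx hy))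
  rw [mul_inv_rev, inv_eq_of_mul_eq_one_right (d.sq_core_eq_one hKE hx),
    inv_eq_of_mul_eq_one_right (d.sq_core_eq_one hKE hy)] at h
  exact h.symm

theorem card_core_eq [Finite G] (hKE : K = E) : Nat.card (core K u) = 16 := by
  rw [d.card_core, hKE, d.card_E]

/-- The centraliser of `v` in `S`. -/
theorem centralizer_props [Finite G] {v : G} (hv : v ∈ C) {a : G}
    (ha : a ∈ S ⊓ centralizer {v}) :
    a * a = 1 ∧ ∀ b ∈ S ⊓ centralizer {v}, Commute a b := by
  obtain ⟨-, h1, h2⟩ := d.small v hv _ (d.two.to_le (inf_le_left : S ⊓ centralizer {v} ≤ S))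
    (inf_le_left.trans d.le) fun _ hg => mem_centralizer_singleton_iff.mp hg.2
  exact ⟨h2 a ha, fun b hb => h1 a ha b hb⟩

variable {e₀ c f : G} (F : Flag S E e₀ c f)
include F

theorem plane_f_false {p : G} (hp : InPlane e₀ c p) (hpf : InPlane e₀ c (p * f)) : False := by
  have h1 := d.plane_mul F hp hpf
  rw [← mul_assoc, d.sq _ (d.plane_mem F hp), one_mul] at h1
  rcases h1 with h | h | h | h
  exacts [F.f_notMem.1 h, F.f_notMem.2.1 h, F.f_notMem.2.2.1 h, F.f_notMem.2.2.2 h]

/-- With `K = E`: `R ∩ C(v)` is the plane, and `v ∈ W`. -/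
theorem centralized_plane [Finite G] (hKE : K = E) {v : G} (hv : v ∈ C) (hvS : v ∈ S)
    (hvR : v ∉ core K u) :
    v ∈ planeCent S c ∧ (∀ x ∈ core K u, Commute x v → InPlane e₀ c x) ∧
      ∃ y ∈ S ⊓ centralizer {v}, y ∈ planeCent S c ∧ disp f y = e₀ := by
  classical
  have hv2 := d.inv v hv
  have hvi : v⁻¹ = v := inv_eq_of_mul_eq_one_right hv2
  set T := core K u ⊓ centralizer {v} with hT
  have hTE : ∀ x ∈ T, x ∈ E := fun x hx =>
    hKE ▸ d.mem_K_of_commute hvS hvR hx.1 (mem_centralizer_singleton_iff.mp hx.2 : Commute x v).symm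
  have hTle : Nat.card T ≤ 4 := by
    have hdvd : Nat.card T ∣ 8 := d.card_E ▸ card_dvd_of_le hTE
    have hne : Nat.card T ≠ 8 := fun h8 => hvR (d.mem_core_of_cent_E hvS fun e he => by
      have := eq_of_le_of_card_ge hTE (by rw [h8, d.card_E])
      have h1 : e ∈ T := this.symm ▸ he
      exact (mem_centralizer_singleton_iff.mp h1.2 : Commute e v).symm)
    have h8 : Nat.card T ≤ 8 := Nat.le_of_dvd (by norm_num) hdvd
    revert hdvd hne h8
    generalize Nat.card T = n
    intro hdvd hne h8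
    interval_cases n <;> omega
  obtain ⟨hle, hsurj⟩ := H51.Asch.card_le_centralized_mul (K := core K u) (T := T) v fun x hx => by
    have hK : ⁅x, v⁆ ∈ K := by
      rw [← inv_mem_iff, commutatorElement_inv]; exact d.commutator_core hvS hx
    refine ⟨d.K_le_core hK, mem_centralizer_singleton_iff.mpr ?_⟩
    have h1 : v * ⁅x, v⁆ * v = ⁅x, v⁆⁻¹ := by
      rw [commutatorElement_def, hvi, mul_inv_rev, mul_inv_rev, mul_inv_rev, inv_inv, hvi]
      calc v * (x * v * x⁻¹ * v) * v = v * x * v * x⁻¹ * (v * v) := by group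
        _ = _ := by rw [hv2, mul_one]; group
    rw [inv_eq_of_mul_eq_one_right (d.sq _ (hKE ▸ hK))] at h1
    calc ⁅x, v⁆ * v = v * ⁅x, v⁆ * v * v := by rw [h1]
      _ = v * ⁅x, v⁆ := by rw [mul_assoc _ v v, hv2, mul_one]
  rw [d.card_core_eq hKE] at hle
  have hT4 : Nat.card T = 4 := le_antisymm hTle (by
    revert hle hTle
    generalize Nat.card T = n
    intro h1 h2
    interval_cases n <;> omega)
  obtain ⟨Φ, y, hyW, hyd, -⟩ := d.exists_phi F
  have hyS := ((d.mem_W F).mp hyW).1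
  -- `y` is central modulo `R`
  set z := v⁻¹ * (y * v * y⁻¹) with hz
  have hzR : z ∈ core K u := by
    have h1 : v * y⁻¹ * v⁻¹ ∈ planeCent S c := d.conj_mem_W F hvS (inv_mem hyW)
    have h2 : y * (v * y⁻¹ * v⁻¹) ∈ core K u := by
      refine d.mem_core_of_disp F (mul_mem hyW h1) ?_
      have hyi : disp f y⁻¹ = e₀ := by
        have h3 := d.disp_mul_W F hyW (inv_mem hyS)
        rw [mul_inv_cancel, d.disp_core F (one_mem _), hyd] at h3
        rw [eq_inv_of_mul_eq_one_left h3.symm, d.inv_E F.e₀_mem]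
      rw [d.disp_mul_W F hyW ((d.mem_W F).mp h1).1, d.disp_conj F hvS (inv_mem hyW), hyi,
        F.fix v hvS, hyd, d.sq _ F.e₀_mem]
    have h3 := d.conj_mem_core (inv_mem hvS) h2
    rw [hz]
    convert h3 using 1
    rw [hvi]; group
  have hvz : v * z * (v * z) = 1 := by
    rw [hz, mul_inv_cancel_left]
    calc y * v * y⁻¹ * (y * v * y⁻¹) = y * (v * v) * y⁻¹ := by group
      _ = 1 := by rw [hv2]; group
  have hzK := d.mul_mem_K hvS hvR hv2 hzR hvz
  have hzv : Commute z v := by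
    have h1 : v * z * v = z⁻¹ := eq_inv_of_mul_eq_one_left (by rw [mul_assoc (v * z)]; exact hvz)
    rw [d.inv_E (hKE ▸ hzK)] at h1
    calc z * v = v * z * v * v := by rw [h1]
      _ = v * z := by rw [mul_assoc _ v v, hv2, mul_one]
  obtain ⟨x, hx, hxz⟩ := hsurj (by rw [d.card_core_eq hKE, hT4]) z
    ⟨hzR, mem_centralizer_singleton_iff.mpr hzv.eq⟩
  rw [commutatorElement_def, hvi] at hxz
  have hy'v : Commute (x⁻¹ * y) v := by
    have h1 : y * v * y⁻¹ = x * v * x⁻¹ := by
      calc y * v * y⁻¹ = v * z := by rw [hz, mul_inv_cancel_left]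
        _ = z * v := hzv.eq.symm
        _ = x * v * x⁻¹ := by rw [← hxz, mul_assoc _ v v, hv2, mul_one]
    calc x⁻¹ * y * v = x⁻¹ * (y * v * y⁻¹) * y := by group
      _ = v * (x⁻¹ * y) := by rw [h1]; group
  have hxS := d.core_le hx
  have hy'W : x⁻¹ * y ∈ planeCent S c := mul_mem (inv_mem (d.mem_W_of_mem_core F hx)) hyW
  have hy'mem : x⁻¹ * y ∈ S ⊓ centralizer {v} :=
    ⟨S.mul_mem (S.inv_mem hxS) hyS, mem_centralizer_singleton_iff.mpr hy'v.eq⟩
  have hy'd : disp f (x⁻¹ * y) = e₀ := by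
    rw [d.disp_mul_W F (inv_mem (d.mem_W_of_mem_core F hx)) hyS, hyd,
      d.disp_core F (inv_mem hx), mul_one]
  have hTP : ∀ t ∈ T, InPlane e₀ c t := by
    intro t ht
    rcases F.top t (hTE t ht) with h | h
    · exact h
    exfalso
    have hc' : Commute (x⁻¹ * y) t := (d.centralizer_props hv hy'mem).2 t
      ⟨d.core_le ht.1, ht.2⟩
    have h1 := d.fix_plane F hy'W h
    rw [← conj_mul, mul_inv_eq_iff_eq_mul.mpr hc'.eq, mul_right_inj] at h1
    have : disp f (x⁻¹ * y) = 1 := by rw [disp, h1, d.sq f F.f_mem]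
    rw [hy'd] at this
    exact F.e₀_ne this
  have hcT : c ∈ T := by
    by_contra hcT
    have hsub : (T : Set G) ⊆ {1, e₀, c * e₀} := fun t ht => by
      rcases hTP t ht with h | h | h | h
      · exact Or.inl h
      · exact Or.inr (Or.inl h)
      · exact absurd (h ▸ ht) hcT
      · exact Or.inr (Or.inr h)
    have h1 := Set.ncard_le_ncard hsub (Set.toFinite _)
    have h2 : (T : Set G).ncard = 4 := hT4
    have h3 := Set.ncard_insert_le (1 : G) {e₀, c * e₀}
    have h4 := Set.ncard_insert_le e₀ {c * e₀}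
    rw [Set.ncard_singleton] at h4
    omega
  refine ⟨(d.mem_W F).mpr ⟨hvS, ?_⟩, fun t ht htv =>
    hTP t ⟨ht, mem_centralizer_singleton_iff.mpr htv.eq⟩, _, hy'mem, hy'W, hy'd⟩
  rw [← Commute.eq (mem_centralizer_singleton_iff.mp hcT.2 : Commute c v), mul_inv_cancel_right]

section Second

variable [Finite G] (hKE : K = E) {v : G} (hv : v ∈ C) (hvS : v ∈ S) (hvR : v ∉ core K u)
include hKE hv hvS hvR

theorem second_plane {x : G} (hx : InPlane e₀ c x) : x ∈ S ⊓ centralizer {v} := by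
  obtain ⟨hvW, -⟩ := d.centralized_plane F hKE hv hvS hvR
  exact ⟨d.E_le_S (d.plane_mem F hx), mem_centralizer_singleton_iff.mpr
    (mul_inv_eq_iff_eq_mul.mp (d.fix_plane F hvW hx) : Commute v x).symm⟩

theorem second_le_W : S ⊓ centralizer {v} ≤ planeCent S c := fun a ha => by
  have h := (d.centralizer_props hv ha).2 c
    (d.second_plane F hKE hv hvS hvR (Or.inr (Or.inr (Or.inl rfl))))
  exact (d.mem_W F).mpr ⟨ha.1, mul_inv_eq_iff_eq_mul.mpr h.eq⟩

theorem second_inf_core {x : G} (hx : x ∈ core K u) (hxA : x ∈ S ⊓ centralizer {v}) :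
    InPlane e₀ c x :=
  (d.centralized_plane F hKE hv hvS hvR).2.1 x hx (mem_centralizer_singleton_iff.mp hxA.2)

/-- `W = R A`. -/
theorem exists_split {w : G} (hw : w ∈ planeCent S c) :
    ∃ z ∈ core K u, ∃ a ∈ S ⊓ centralizer {v}, w = z * a := by
  obtain ⟨hvW, -, y, hyA, hyW, hyd⟩ := d.centralized_plane F hKE hv hvS hvR
  have hvA : v ∈ S ⊓ centralizer {v} := ⟨hvS, mem_centralizer_singleton_iff.mpr rfl⟩
  obtain ⟨a, ha, had⟩ : ∃ a ∈ S ⊓ centralizer {v}, disp f a = disp f w := by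
    have hvn := d.not_flat F hv hvW hvR
    have hvy : disp f (v * y) = e₀ * disp f v := by rw [d.disp_mul_W F hvW hyA.1, hyd]
    have hvyA := mul_mem hvA hyA
    have he := d.sq _ F.e₀_mem
    have hcm := (d.commute_E F.e₀_mem F.c_mem).eq
    rcases d.disp_plane F ((d.mem_W F).mp hw).1 with h | h | h | h
    · exact ⟨1, one_mem _, by rw [h]; exact d.disp_core F (one_mem _)⟩
    · exact ⟨y, hyA, by rw [h, hyd]⟩
    all_goals
      rcases d.disp_plane F hvS with h1 | h1 | h1 | h1
      · exact absurd (Or.inl h1) hvn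
      · exact absurd (Or.inr h1) hvn
    · exact ⟨v, hvA, by rw [h, h1]⟩
    · exact ⟨v * y, hvyA, by rw [h, hvy, h1, ← mul_assoc, hcm, mul_assoc, he, mul_one]⟩
    · exact ⟨v * y, hvyA, by rw [h, hvy, h1, hcm]⟩
    · exact ⟨v, hvA, by rw [h, h1]⟩
  have haW := d.second_le_W F hKE hv hvS hvR ha
  have hzR : w * a⁻¹ ∈ core K u := by
    refine d.mem_core_of_disp F (mul_mem hw (inv_mem haW)) ?_
    have h1 := d.disp_mul_W F (mul_mem hw (inv_mem haW)) ha.1
    rw [inv_mul_cancel_right, had] at h1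
    exact mul_eq_left.mp h1.symm
  exact ⟨_, hzR, a, ha, by rw [inv_mul_cancel_right]⟩

/-- The involutions of `W` lie in `R` and `A`. -/
theorem mem_or_of_sq {w : G} (hw : w ∈ planeCent S c) (hw2 : w * w = 1) :
    w ∈ core K u ∨ w ∈ S ⊓ centralizer {v} := by
  obtain ⟨z, hz, a, ha, rfl⟩ := d.exists_split F hKE hv hvS hvR hw
  by_cases haR : a ∈ core K u
  · exact Or.inl (mul_mem hz haR)
  refine Or.inr (mul_mem (d.second_plane F hKE hv hvS hvR ?_) ha)
  have hza : Commute a z := by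
    have h := inv_eq_of_mul_eq_one_right hw2
    rw [mul_inv_rev, inv_eq_of_mul_eq_one_right (d.sq_core_eq_one hKE hz),
      inv_eq_of_mul_eq_one_right (d.centralizer_props hv ha).1] at h
    exact h
  have haW := d.second_le_W F hKE hv hvS hvR ha
  have hzE : z ∈ E := hKE ▸ d.mem_K_of_commute ha.1 haR hz hza
  rcases F.top z hzE with h | h
  · exact h
  exfalso
  apply haR
  refine d.mem_core_of_disp F haW ?_
  have h1 := d.fix_plane F haW h
  rw [← conj_mul, mul_inv_eq_iff_eq_mul.mpr hza.eq, mul_right_inj] at h1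
  rw [disp, h1, d.sq f F.f_mem]

theorem conj_mem_second {v' : G} (hv' : v' ∈ C) (hv'S : v' ∈ S) (hv'R : v' ∉ core K u) :
    v' ∈ S ⊓ centralizer {v} :=
  (d.mem_or_of_sq F hKE hv hvS hvR (d.centralized_plane F hKE hv' hv'S hv'R).1
    (d.inv v' hv')).resolve_left hv'R

theorem second_eq {v' : G} (hv' : v' ∈ C) (hv'S : v' ∈ S) (hv'R : v' ∉ core K u) {x : G}
    (hx : x ∈ S) (hxv : Commute x v') : x ∈ S ⊓ centralizer {v} := by
  have h1 := d.conj_mem_second F hKE hv hvS hvR hv' hv'S hv'R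
  have hvv' : Commute v v' := (mem_centralizer_singleton_iff.mp h1.2 : Commute v' v).symm
  exact ⟨hx, mem_centralizer_singleton_iff.mpr
    ((d.centralizer_props hv' ⟨hx, mem_centralizer_singleton_iff.mpr hxv.eq⟩).2 v
      ⟨hvS, mem_centralizer_singleton_iff.mpr hvv'.eq⟩).eq⟩

end Second

end EightData

end Cfsg.Agent.H74.Asch
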