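import Cfsg.Agent.H74.Asch.EightSwap

/-!
The residue `q = 8`: a maximal `2`-subgroup of `H` above `S` is `S` or `S ∪ g S` with `g` swapping
`R` and `A`; the squares and products of two conjugates generate a normal subgroup with abelian
quotient that avoids `u` and contains `v u` for every conjugate `v`.
-/

set_option autoImplicit false
set_option linter.style.haveILetI false
set_option linter.unusedSectionVars false

namespace Cfsg.Agent.H74.Asch

open Subgroup
open scoped commutatorElement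

universe u

variable {G : Type u} [Group G]

namespace EightData

variable {H S K E : Subgroup G} {u : G} {C : Set G} (d : EightData H S K E u C)
include d

theorem genGroup_le : genGroup S C ≤ S := (closure_le _).mpr (by
  rintro g (⟨a, -, b, -, ha, hb, rfl⟩ | ⟨s, hs, rfl⟩)
  · exact mul_mem ha hb
  · exact mul_mem hs hs)

theorem mem_gen_mul {a b : G} (ha : a ∈ C) (haS : a ∈ S) (hb : b ∈ C) (hbS : b ∈ S) :
    a * b ∈ genGroup S C := subset_closure (Or.inl ⟨a, ha, b, hb, haS, hbS, rfl⟩)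

theorem sq_mem_gen {s : G} (hs : s ∈ S) : s * s ∈ genGroup S C :=
  subset_closure (Or.inr ⟨s, hs, rfl⟩)

theorem commutator_mem_gen {s t : G} (hs : s ∈ S) (ht : t ∈ S) : ⁅s, t⁆ ∈ genGroup S C := by
  have e : ⁅s, t⁆ = s * s * (s⁻¹ * t * (s⁻¹ * t)) * (t⁻¹ * t⁻¹) := by
    rw [commutatorElement_def]; group
  rw [e]
  exact mul_mem (mul_mem (d.sq_mem_gen hs) (d.sq_mem_gen (mul_mem (inv_mem hs) ht)))
    (d.sq_mem_gen (inv_mem ht))

theorem K_le_gen [Finite G] : K ≤ genGroup S C := fun k hk => by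
  obtain ⟨s, hs, hsu⟩ := d.exists_conj_u hk
  have h := d.mem_gen_mul (d.conj_mem s (d.le hs) u d.u_C)
    (mul_mem (mul_mem hs d.u_mem) (inv_mem hs)) d.u_C d.u_mem
  rwa [hsu, mul_assoc, d.sq_u, mul_one] at h

theorem conj_gen {g : G} (hgH : g ∈ H) (hgS : ∀ s ∈ S, g * s * g⁻¹ ∈ S) {x : G}
    (hx : x ∈ genGroup S C) : g * x * g⁻¹ ∈ genGroup S C := by
  induction hx using closure_induction with
  | mem y hy =>
    rcases hy with ⟨a, ha, b, hb, haS, hbS, rfl⟩ | ⟨s, hs, rfl⟩
    · rw [← conj_mul]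
      exact d.mem_gen_mul (d.conj_mem g hgH a ha) (hgS a haS) (d.conj_mem g hgH b hb) (hgS b hbS)
    · rw [← conj_mul]
      exact d.sq_mem_gen (hgS s hs)
  | one => simp
  | mul a b _ _ iha ihb => rw [← conj_mul]; exact mul_mem iha ihb
  | inv a _ iha => rw [← conj_inv]; exact inv_mem iha

end EightData

/-- The hypotheses on an element of the normaliser of `S` moving `R`. -/
structure Swaps (H S K : Subgroup G) (u : G) (g : G) : Prop where
  mem : g ∈ H
  iff : ∀ s, s ∈ S ↔ g * s * g⁻¹ ∈ S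
  move : g ∉ normalizer ((core K u : Subgroup G) : Set G)

namespace EightData

variable [Finite G] {H S K E : Subgroup G} {u : G} {C : Set G} (d : EightData H S K E u C)
  {e₀ c f : G} (F : Flag S E e₀ c f)
include d F

theorem shift_u (hKE : K = E) {v : G} (hv : v ∈ C) (hvS : v ∈ S) (hvR : v ∉ core K u)
    (hA : ∀ s ∈ S, ∀ a ∈ S ⊓ centralizer {v}, s * a * s⁻¹ ∈ S ⊓ centralizer {v}) {s : G}
    (hs : s ∈ S) (hsW : s ∉ planeCent S c) : ¬ InPlane e₀ c (s * u * s⁻¹ * u) := by
  intro hsu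
  have hW : ∀ w ∈ planeCent S c, InPlane e₀ c (w * u * w⁻¹ * u) := by
    intro w hw
    obtain ⟨z, hz, a, ha, rfl⟩ := d.exists_split F hKE hv hvS hvR hw
    have h1 : InPlane e₀ c (a * u * a⁻¹ * u) := by
      refine d.second_inf_core F hKE hv hvS hvR (d.K_le_core (d.conj_u a ha.1)) ?_
      have := hA u d.u_mem a⁻¹ (inv_mem ha)
      rw [d.inv_u] at this
      rw [show a * u * a⁻¹ * u = a * (u * a⁻¹ * u) by group]
      exact mul_mem ha this
    have hzu : Commute z u := d.commute_core hKE hz d.u_mem_core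
    have e : z * a * u * (z * a)⁻¹ * u = z * (a * u * a⁻¹ * u) * z⁻¹ := by
      calc z * a * u * (z * a)⁻¹ * u = z * (a * u * a⁻¹ * u) * (u⁻¹ * z⁻¹ * u) := by group
        _ = _ := by rw [mul_assoc u⁻¹, hzu.inv_left.eq, inv_mul_cancel_left]
    rw [e, d.fix_plane F (d.mem_W_of_mem_core F hz) h1]
    exact h1
  have hall : ∀ t ∈ S, InPlane e₀ c (t * u * t⁻¹ * u) := by
    intro t ht
    by_cases htW : t ∈ planeCent S c
    · exact hW t htW
    have hw := d.mul_mem_W F (inv_mem hs) (fun h => hsW (inv_mem_iff.mp h)) ht htW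
    have h1 := d.conj_plane F hs (hW _ hw)
    have e : t * u * t⁻¹ * u =
        s * (s⁻¹ * t * u * (s⁻¹ * t)⁻¹ * u) * s⁻¹ * (s * u * s⁻¹ * u) := by
      symm
      calc _ = t * u * t⁻¹ * s * (u * s⁻¹ * (s * u)) * s⁻¹ * u := by group
        _ = _ := by rw [show u * s⁻¹ * (s * u) = u * u by group, d.sq_u]; group
    rw [e]
    exact d.plane_mul F h1 hsu
  obtain ⟨t, ht, htu⟩ := d.exists_conj_u (d.E_le F.f_mem)
  have h1 := hall t ht
  rw [htu, mul_assoc, d.sq_u, mul_one] at h1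
  exact d.plane_f_false F (Or.inl rfl) (by rwa [one_mul])

section Swap

variable {g : G} (hg : Swaps H S K u g)
include hg

theorem swap_K_eq : K = E :=
  d.roots.resolve_right fun h => hg.move (d.mem_normalizer_core_of_roots h hg.mem hg.iff)

/-- The image of `u` under `g`. -/
theorem swap_v : g * u * g⁻¹ ∈ C ∧ g * u * g⁻¹ ∈ S ∧ g * u * g⁻¹ ∉ core K u ∧
    ∀ x ∈ core K u, g * x * g⁻¹ ∈ S ⊓ centralizer {g * u * g⁻¹} := by
  have hKE := d.swap_K_eq F hg
  have hvC := d.conj_mem g hg.mem u d.u_C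
  have hvS := (hg.iff u).mp d.u_mem
  have hmem : ∀ x ∈ core K u, g * x * g⁻¹ ∈ S ⊓ centralizer {g * u * g⁻¹} := fun x hx => by
    have hc : Commute (g * x * g⁻¹) (g * u * g⁻¹) :=
      (d.commute_core hKE hx d.u_mem_core).map (MulAut.conj g).toMonoidHom
    exact ⟨(hg.iff x).mp (d.core_le hx), mem_centralizer_singleton_iff.mpr hc.eq⟩
  refine ⟨hvC, hvS, fun hR => hg.move (mem_normalizer_of_conj_le fun x hx => ?_), hmem⟩
  exact d.mem_core_of_commute (hmem x hx).1 hR (d.notMem _ hvC)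
    (mem_centralizer_singleton_iff.mp (hmem x hx).2)

/-- The second elementary group `A` of `g`. -/
theorem swap_maps : (∀ a ∈ S ⊓ centralizer {g * u * g⁻¹}, g⁻¹ * a * g ∈ core K u) ∧
    (∀ a ∈ S ⊓ centralizer {g * u * g⁻¹}, g * a * g⁻¹ ∈ core K u) := by
  have hKE := d.swap_K_eq F hg
  obtain ⟨hvC, hvS, hvR, hmem⟩ := d.swap_v F hg
  set v := g * u * g⁻¹ with hv
  set A := S ⊓ centralizer ({v} : Set G) with hA
  let φ : core K u → A := fun x => ⟨g * x * g⁻¹, hmem x x.2⟩
  have hφ : Function.Injective φ := fun x y h => Subtype.ext (by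
    have := congrArg (fun z : A => (z : G)) h
    exact mul_left_cancel (mul_right_cancel this))
  have hcard : Nat.card A ≤ Nat.card (core K u) := by
    rw [d.card_core_eq hKE]; exact d.card_centralizer_le hvC
  have hbij := (Nat.bijective_iff_injective_and_card φ).mpr
    ⟨hφ, le_antisymm (Nat.card_le_card_of_injective φ hφ) hcard⟩
  have hback : ∀ a ∈ A, g⁻¹ * a * g ∈ core K u := fun a ha => by
    obtain ⟨x, hx⟩ := hbij.2 ⟨a, ha⟩
    have hxa : g * x * g⁻¹ = a := congrArg (fun z : A => (z : G)) hx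
    rw [← hxa, show g⁻¹ * (g * x * g⁻¹) * g = (x : G) by group]
    exact x.2
  refine ⟨hback, fun a ha => ?_⟩
  have hwC := d.conj_mem g hg.mem v hvC
  have hwS := (hg.iff v).mp hvS
  have hc : Commute (g * a * g⁻¹) (g * v * g⁻¹) :=
    (show Commute a v from mem_centralizer_singleton_iff.mp ha.2).map (MulAut.conj g).toMonoidHom
  by_cases hwR : g * v * g⁻¹ ∈ core K u
  · exact d.mem_core_of_commute ((hg.iff a).mp ha.1) hwR (d.notMem _ hwC) hc
  exfalso
  have h1 := hback _ (d.conj_mem_second F hKE hvC hvS hvR hwC hwS hwR)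
  rw [show g⁻¹ * (g * v * g⁻¹) * g = v by group] at h1
  exact hvR h1

theorem swap_conj_second {s a : G} (hs : s ∈ S) (ha : a ∈ S ⊓ centralizer {g * u * g⁻¹}) :
    s * a * s⁻¹ ∈ S ⊓ centralizer {g * u * g⁻¹} := by
  obtain ⟨-, -, -, hmem⟩ := d.swap_v F hg
  have hs' : g⁻¹ * s * g ∈ S := (hg.iff _).mpr (by simpa [mul_assoc] using hs)
  have := hmem _ (d.conj_mem_core hs' ((d.swap_maps F hg).1 a ha))
  rwa [show g * (g⁻¹ * s * g * (g⁻¹ * a * g) * (g⁻¹ * s * g)⁻¹) * g⁻¹ = s * a * s⁻¹ by group] at this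

theorem swap_plane {p : G} (hp : InPlane e₀ c p) :
    InPlane e₀ c (g * p * g⁻¹) ∧ InPlane e₀ c (g⁻¹ * p * g) := by
  have hKE := d.swap_K_eq F hg
  obtain ⟨hvC, hvS, hvR, hmem⟩ := d.swap_v F hg
  obtain ⟨hm1, hm2⟩ := d.swap_maps F hg
  have hpR := d.K_le_core (d.E_le (d.plane_mem F hp))
  have hpA := d.second_plane F hKE hvC hvS hvR hp
  refine ⟨d.second_inf_core F hKE hvC hvS hvR (hm2 p hpA) (hmem p hpR), ?_⟩
  refine d.second_inf_core F hKE hvC hvS hvR (hm1 p hpA) ⟨(hg.iff _).mpr ?_, ?_⟩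
  · simpa [mul_assoc] using d.core_le hpR
  · have hgv : g * (g * u * g⁻¹) * g⁻¹ ∈ core K u :=
      hm2 _ ⟨hvS, mem_centralizer_singleton_iff.mpr rfl⟩
    have hc := (d.commute_core hKE hpR hgv).map (MulAut.conj g⁻¹).toMonoidHom
    refine mem_centralizer_singleton_iff.mpr ?_
    simpa [mul_assoc] using hc.eq

theorem swap_W {w : G} (hw : w ∈ planeCent S c) :
    g * w * g⁻¹ ∈ planeCent S c ∧ g⁻¹ * w * g ∈ planeCent S c := by
  have hwS := ((d.mem_W F).mp hw).1
  have hp : InPlane e₀ c c := Or.inr (Or.inr (Or.inl rfl))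
  have hwS' : g⁻¹ * w * g ∈ S := (hg.iff _).mpr (by simpa [mul_assoc] using hwS)
  constructor
  · refine (d.mem_W F).mpr ⟨(hg.iff w).mp hwS, ?_⟩
    have h1 := d.fix_plane F hw (d.swap_plane F hg hp).2
    calc g * w * g⁻¹ * c * (g * w * g⁻¹)⁻¹ = g * (w * (g⁻¹ * c * g) * w⁻¹) * g⁻¹ := by group
      _ = c := by rw [h1]; group
  · refine (d.mem_W F).mpr ⟨hwS', ?_⟩
    have h1 := d.fix_plane F hw (d.swap_plane F hg hp).1
    calc g⁻¹ * w * g * c * (g⁻¹ * w * g)⁻¹ = g⁻¹ * (w * (g * c * g⁻¹) * w⁻¹) * g := by group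
      _ = c := by rw [h1]; group

theorem swap_not_commute_u : ¬ Commute g u := fun h => by
  obtain ⟨-, -, hvR, -⟩ := d.swap_v F hg
  rw [mul_inv_eq_iff_eq_mul.mpr h.eq] at hvR
  exact hvR d.u_mem_core

/-- An element moving `R` is no conjugate of `u`. -/
theorem swap_notMem : g ∉ C := by
  classical
  intro hgC
  have hKE := d.swap_K_eq F hg
  obtain ⟨hvC, hvS, hvR, hmem⟩ := d.swap_v F hg
  obtain ⟨hm1, hm2⟩ := d.swap_maps F hg
  set v := g * u * g⁻¹ with hv
  have hg2 := d.inv g hgC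
  have hgi : g⁻¹ = g := inv_eq_of_mul_eq_one_right hg2
  set W := planeCent S c with hW
  have hWS : W ≤ S := inf_le_left
  obtain ⟨-, hcomm, hsq⟩ := d.small g hgC (S ⊓ centralizer {g})
    (d.two.to_le inf_le_left) (inf_le_left.trans d.le) fun _ hx => mem_centralizer_singleton_iff.mp hx.2
  have hCW : ∀ x ∈ W, Commute x g → InPlane e₀ c x := by
    intro x hx hxg
    have hx2 := hsq x ⟨hWS hx, mem_centralizer_singleton_iff.mpr hxg.eq⟩
    have hfix : g * x * g⁻¹ = x := mul_inv_eq_iff_eq_mul.mpr hxg.symm.eq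
    rcases d.mem_or_of_sq F hKE hvC hvS hvR hx hx2 with h | h
    · exact d.second_inf_core F hKE hvC hvS hvR h (hfix ▸ hmem x h)
    · exact d.second_inf_core F hKE hvC hvS hvR (hfix ▸ hm2 x h) h
  -- the inverted elements of `W`
  set I : Set G := {x | x ∈ W ∧ g * x * g⁻¹ * x = 1} with hI
  set CP := W ⊓ centralizer ({g} : Set G) with hCP
  let φ : Fin 4 × CP → G := fun p => reps u f p.1 * (g * reps u f p.1 * g⁻¹) * p.2
  have hIsub : I ⊆ Set.range φ := by
    rintro x ⟨hxW, hxi⟩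
    obtain ⟨z, hz, a, ha, rfl⟩ := d.exists_split F hKE hvC hvS hvR hxW
    obtain ⟨i, hi, hiR⟩ : ∃ i, InPlane e₀ c ((reps u f i)⁻¹ * z) ∧ reps u f i ∈ core K u := by
      have hfR := d.K_le_core (d.E_le F.f_mem)
      rcases d.mem_core.mp hz with hzK | hzK <;> rcases F.top _ (hKE ▸ hzK) with h | h
      · exact ⟨0, by simpa [reps, InPlane] using h, by simp [reps]⟩
      · refine ⟨2, ?_, by simpa [reps] using hfR⟩
        show InPlane e₀ c (f⁻¹ * z)
        rwa [d.inv_f F, (d.commute_core hKE hfR hz).eq]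
      · refine ⟨1, ?_, by simpa [reps] using d.u_mem_core⟩
        show InPlane e₀ c (u⁻¹ * z)
        rwa [d.inv_u, (d.commute_core hKE d.u_mem_core hz).eq]
      · refine ⟨3, ?_, by simpa [reps] using mul_mem d.u_mem_core hfR⟩
        show InPlane e₀ c ((u * f)⁻¹ * z)
        rwa [inv_eq_of_mul_eq_one_right (d.sq_core_eq_one hKE (mul_mem d.u_mem_core hfR)),
          (d.commute_core hKE (mul_mem d.u_mem_core hfR) hz).eq, ← mul_assoc]
    set t := reps u f i with ht
    have haA : t⁻¹ * z * a ∈ S ⊓ centralizer {v} :=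
      mul_mem (d.second_plane F hKE hvC hvS hvR hi) ha
    set a' := t⁻¹ * z * a with ha'
    have hxa : z * a = t * a' := by rw [ha']; group
    set ga := g * t * g⁻¹ with hga
    have hgaA := hmem t hiR
    have hgc := hm2 a' haA
    -- the two sides lie in `R` and in `A`
    have heq : ga * (g * a' * g⁻¹ * t) * a' = 1 := by
      rw [hxa] at hxi
      rw [← hxi, hga]; group
    set p := g * a' * g⁻¹ * t with hp
    have hpR : p ∈ core K u := mul_mem hgc hiR
    have hp' : p = ga⁻¹ * a'⁻¹ := by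
      calc p = ga⁻¹ * (ga * p * a') * a'⁻¹ := by group
        _ = _ := by rw [heq, mul_one]
    have hpP := d.second_inf_core F hKE hvC hvS hvR hpR (hp' ▸ mul_mem (inv_mem hgaA) (inv_mem haA))
    have ha'2 := (d.centralizer_props hvC haA).1
    have hga2 := (d.centralizer_props hvC hgaA).1
    have hgaa := (d.centralizer_props hvC hgaA).2 a' haA
    have hpa : a' = ga * p := by
      rw [hp', inv_eq_of_mul_eq_one_right hga2, inv_eq_of_mul_eq_one_right ha'2, ← mul_assoc, hga2,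
        one_mul]
    have hgp : g * p * g⁻¹ = p := by
      have h1 : g * a' * g⁻¹ = t * (g * p * g⁻¹) := by
        rw [hpa, hga]
        calc g * (g * t * g⁻¹ * p) * g⁻¹ = g * g * t * (g * g)⁻¹ * (g * p * g⁻¹) := by group
          _ = _ := by rw [hg2]; group
      have hgpR := d.K_le_core (d.E_le (d.plane_mem F (d.swap_plane F hg hpP).1))
      have h2 : p = t * (g * p * g⁻¹) * t := by rw [← h1]
      rw [(d.commute_core hKE hiR hgpR).eq, mul_assoc, d.sq_core_eq_one hKE hiR, mul_one] at h2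
      exact h2.symm
    refine ⟨(i, ⟨p, d.mem_W_of_mem_core F hpR,
      mem_centralizer_singleton_iff.mpr (mul_inv_eq_iff_eq_mul.mp hgp).symm⟩), ?_⟩
    show t * (g * t * g⁻¹) * p = z * a
    rw [hxa, hpa, hga, mul_assoc]
  have hIcard : Nat.card I ≤ 4 * Nat.card CP := by
    have h1 := Set.ncard_le_ncard hIsub (Set.toFinite _)
    have h2 : (Set.range φ).ncard ≤ Nat.card (Fin 4 × CP) := by
      rw [← Nat.card_coe_set_eq]
      exact Finite.card_range_le φ
    rw [Nat.card_prod, Nat.card_fin] at h2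
    rw [Nat.card_coe_set_eq]
    omega
  obtain ⟨hle, hsurj⟩ := card_le_centralized_mul_set (K := W) (T := I) g fun x hx => by
    refine ⟨?_, ?_⟩
    · rw [commutatorElement_def, mul_assoc, mul_assoc, ← mul_assoc g]
      exact mul_mem hx (d.swap_W F hg (inv_mem hx)).1
    · rw [commutatorElement_def, hgi]
      calc g * (x * g * x⁻¹ * g) * g * (x * g * x⁻¹ * g)
          = g * x * g * x⁻¹ * (g * g) * x * g * x⁻¹ * g := by group
        _ = g * x * g * x⁻¹ * x * g * x⁻¹ * g := by rw [hg2, mul_one]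
        _ = g * x * (g * g) * x⁻¹ * g := by group
        _ = 1 := by rw [hg2, mul_one, mul_inv_cancel_right, hg2]
  have hCPsub : (CP : Set G) ⊆ {1, e₀, c, c * e₀} := fun x hx => by
    rcases hCW x hx.1 (mem_centralizer_singleton_iff.mp hx.2) with h | h | h | h <;> simp [h]
  have hCP4 : Nat.card CP ≤ 4 := by
    have h1 := Set.ncard_le_ncard hCPsub (Set.toFinite _)
    have h2 : (CP : Set G).ncard = Nat.card CP := rfl
    have h3 := Set.ncard_insert_le (1 : G) {e₀, c, c * e₀}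
    have h4 := Set.ncard_insert_le e₀ {c, c * e₀}
    have h5 := Set.ncard_insert_le c {c * e₀}
    rw [Set.ncard_singleton] at h5
    omega
  have hW64 : Nat.card W = 64 := by rw [hW, (d.card_W F).1, hKE, d.card_E]
  have h64 : 64 ≤ Nat.card CP * Nat.card I := hW64 ▸ hle
  have hCPeq : Nat.card CP = 4 := by
    have h5 := h64.trans (Nat.mul_le_mul_left (Nat.card CP) hIcard)
    nlinarith
  have hcCP : c ∈ CP := by
    by_contra hc
    have hsub : (CP : Set G) ⊆ {1, e₀, c * e₀} := fun x hx => by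
      rcases hCPsub hx with h | h | h | h
      · exact Or.inl h
      · exact Or.inr (Or.inl h)
      · exact absurd (h ▸ hx) hc
      · exact Or.inr (Or.inr h)
    have h1 := Set.ncard_le_ncard hsub (Set.toFinite _)
    have h2 : (CP : Set G).ncard = 4 := hCPeq
    have h3 := Set.ncard_insert_le (1 : G) {e₀, c * e₀}
    have h4 := Set.ncard_insert_le e₀ {c * e₀}
    rw [Set.ncard_singleton] at h4
    omega
  obtain ⟨r, hr, hrW⟩ := d.exists_notMem_W F
  have hrn : g * r⁻¹ * g⁻¹ ∉ W := fun h => hrW (by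
    have := (d.swap_W F hg h).2
    rw [show g⁻¹ * (g * r⁻¹ * g⁻¹) * g = r⁻¹ by group] at this
    exact inv_mem_iff.mp this)
  have hy1 : ⁅r, g⁆ ∈ I := by
    refine ⟨?_, ?_⟩
    · rw [commutatorElement_def, mul_assoc, mul_assoc, ← mul_assoc g]
      exact d.mul_mem_W F hr hrW ((hg.iff _).mp (inv_mem hr)) hrn
    · rw [commutatorElement_def, hgi]
      calc g * (r * g * r⁻¹ * g) * g * (r * g * r⁻¹ * g)
          = g * r * g * r⁻¹ * (g * g) * r * g * r⁻¹ * g := by group
        _ = g * r * g * r⁻¹ * r * g * r⁻¹ * g := by rw [hg2, mul_one]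
        _ = g * r * (g * g) * r⁻¹ * g := by group
        _ = 1 := by rw [hg2, mul_one, mul_inv_cancel_right, hg2]
  obtain ⟨x, hx, hxr⟩ := hsurj (by
    rw [hW64, ← hCP, hCPeq]
    omega) _ hy1
  have hxr' : Commute (x⁻¹ * r) g := by
    have h1 : r * g * r⁻¹ = x * g * x⁻¹ := by
      rw [commutatorElement_def, commutatorElement_def] at hxr
      exact (mul_right_cancel hxr).symm
    calc x⁻¹ * r * g = x⁻¹ * (r * g * r⁻¹) * r := by group
      _ = g * (x⁻¹ * r) := by rw [h1]; group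
  have hc' := hcomm _ ⟨S.mul_mem (S.inv_mem (hWS hx)) hr, mem_centralizer_singleton_iff.mpr hxr'.eq⟩
    c ⟨d.E_le_S F.c_mem, hcCP.2⟩
  apply hrW
  have h1 : x⁻¹ * r ∈ W :=
    (d.mem_W F).mpr ⟨mul_mem (inv_mem (hWS hx)) hr, mul_inv_eq_iff_eq_mul.mpr hc'.eq⟩
  have := mul_mem hx h1
  rwa [mul_inv_cancel_left] at this

/-- `W` lies in the target and its translate by `u`. -/
theorem W_cases {w : G} (hw : w ∈ planeCent S c) :
    w ∈ genGroup S C ∨ w * u ∈ genGroup S C := by
  have hKE := d.swap_K_eq F hg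
  obtain ⟨hvC, hvS, hvR, -⟩ := d.swap_v F hg
  have hgS : ∀ s ∈ S, g * s * g⁻¹ ∈ S := fun s hs => (hg.iff s).mp hs
  set L := genGroup S C
  have hLu : ∀ {a b}, (a ∈ L ∨ a * u ∈ L) → (b ∈ L ∨ b * u ∈ L) → a * b ∈ L ∨ a * b * u ∈ L := by
    have hconj : ∀ {x}, x ∈ L → u * x * u ∈ L := fun {x} hx => by
      have := d.conj_gen (d.le d.u_mem) (fun s hs => mul_mem (mul_mem d.u_mem hs) (inv_mem d.u_mem)) hx
      rwa [d.inv_u] at this
    intro a b ha hb
    rcases ha with ha | ha <;> rcases hb with hb | hb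
    · exact Or.inl (mul_mem ha hb)
    · exact Or.inr (by rw [mul_assoc]; exact mul_mem ha hb)
    · refine Or.inr ?_
      have e : a * b * u = a * u * (u * b * u) := by
        calc a * b * u = a * (u * u) * b * u := by rw [d.sq_u, mul_one]
          _ = _ := by group
      rw [e]
      exact mul_mem ha (hconj hb)
    · refine Or.inl ?_
      have e : a * b = a * u * (u * (b * u) * u) := by
        calc a * b = a * (u * u) * b * (u * u) := by rw [d.sq_u, mul_one, mul_one]
          _ = _ := by group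
      rw [e]
      exact mul_mem ha (hconj hb)
  obtain ⟨z, hz, a, ha, rfl⟩ := d.exists_split F hKE hvC hvS hvR hw
  refine hLu ((d.mem_core.mp hz).imp (d.K_le_gen ·) (d.K_le_gen ·)) ?_
  rcases d.mem_core.mp ((d.swap_maps F hg).1 a ha) with h | h
  · refine Or.inl ?_
    have := d.conj_gen hg.mem hgS (d.K_le_gen h)
    rwa [show g * (g⁻¹ * a * g) * g⁻¹ = a by group] at this
  · refine Or.inr ?_
    have h1 := d.conj_gen hg.mem hgS (d.K_le_gen h)
    have h2 := d.mem_gen_mul hvC hvS d.u_C d.u_mem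
    rw [show a * u = g * (g⁻¹ * a * g * u) * g⁻¹ * (g * u * g⁻¹ * u) by
      symm
      calc _ = a * g * (u * u) * g⁻¹ * u := by group
        _ = _ := by rw [d.sq_u, mul_one, mul_inv_cancel_right]]
    exact mul_mem h1 h2

theorem sq_plane_congr {s t : G} (hs : s ∈ S) (hsW : s ∉ planeCent S c) (ht : t ∈ S)
    (htW : t ∉ planeCent S c) (hs2 : InPlane e₀ c (s * s)) (ht2 : InPlane e₀ c (t * t)) :
    s⁻¹ * t ∈ genGroup S C := by
  have hKE := d.swap_K_eq F hg
  obtain ⟨hvC, hvS, hvR, hmem⟩ := d.swap_v F hg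
  obtain ⟨hm1, -⟩ := d.swap_maps F hg
  have hgS : ∀ s ∈ S, g * s * g⁻¹ ∈ S := fun s hs => (hg.iff s).mp hs
  have key : ∀ {s x}, s ∈ S → s ∉ planeCent S c → x ∈ core K u →
      InPlane e₀ c (s * x * s⁻¹ * x) → x ∈ E := by
    intro s x hs hsW hx hsx
    by_contra hxE
    have hxu : x * u ∈ E := hKE ▸ (d.mem_core.mp hx).resolve_left (fun h => hxE (hKE ▸ h))
    set e := x * u with he
    have hq : InPlane e₀ c (s * e * s⁻¹ * e) := by
      rcases F.top e hxu with h | h
      · exact d.plane_mul F (d.conj_plane F hs h) h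
      · have h1 := d.plane_mul F (d.plane_mul F (d.conj_plane F hs h) (d.disp_plane F hs)) h
        have e1 : s * e * s⁻¹ * e = s * (e * f) * s⁻¹ * disp f s * (e * f) := by
          symm
          calc _ = s * e * f * f * s⁻¹ * f * (e * f) := by simp only [disp]; group
            _ = s * e * s⁻¹ * (f * (e * f)) := by
              rw [mul_assoc (s * e) f f, d.sq f F.f_mem]; group
            _ = _ := by
              rw [(d.commute_E hxu F.f_mem).eq, ← mul_assoc f f, d.sq f F.f_mem, one_mul]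
        rwa [e1]
    refine d.shift_u F hKE hvC hvS hvR (fun s hs a ha => d.swap_conj_second F hg hs ha) hs hsW ?_
    have h1 := d.plane_mul F hsx hq
    have hxe : x = e * u := by rw [he, mul_assoc, d.sq_u, mul_one]
    have e1 : s * x * s⁻¹ * x * (s * e * s⁻¹ * e) = s * u * s⁻¹ * u := by
      have hse := d.conj_E hs hxu
      have hsu : s * u * s⁻¹ ∈ core K u := d.conj_mem_core hs d.u_mem_core
      have hseR := d.K_le_core (d.E_le hse)
      have heR := d.K_le_core (d.E_le hxu)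
      have hss : s * x * s⁻¹ = s * e * s⁻¹ * (s * u * s⁻¹) := by rw [hxe]; group
      rw [hss, hxe]
      set A := s * e * s⁻¹
      set B := s * u * s⁻¹
      have c1 : Commute A B := d.commute_core hKE hseR hsu
      have c2 : Commute A e := d.commute_core hKE hseR heR
      have c3 : Commute A u := d.commute_core hKE hseR d.u_mem_core
      have c4 : Commute e u := d.commute_u hxu
      calc A * B * (e * u) * (A * e) = B * A * (A * (e * u) * e) := by
            rw [c1.eq, mul_assoc (B * A), ← mul_assoc (e * u) A e, ((c2.mul_right c3).symm).eq]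
        _ = B * (A * A) * (e * u * e) := by group
        _ = B * (e * e * u) := by rw [d.sq_core_eq_one hKE hseR, c4.eq, mul_assoc u e e,
              (show Commute u (e * e) from (c4.symm.mul_right c4.symm)).eq, mul_one]
        _ = _ := by rw [d.sq e hxu, one_mul]
    rwa [e1] at h1
  set x := s⁻¹ * t with hx
  have hxW : x ∈ planeCent S c :=
    d.mul_mem_W F (inv_mem hs) (fun h => hsW (inv_mem_iff.mp h)) ht htW
  have hsx : InPlane e₀ c (s⁻¹ * x * s * x) := by
    have e1 : s⁻¹ * x * s * x = (s * s)⁻¹ * (t * t) := by rw [hx]; group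
    rw [e1, d.inv_E (d.plane_mem F hs2)]
    exact d.plane_mul F hs2 ht2
  obtain ⟨z, hz, a, ha, hza⟩ := d.exists_split F hKE hvC hvS hvR hxW
  set z' := s⁻¹ * z * s
  set a' := s⁻¹ * a * s
  have hz' : z' ∈ core K u := by simpa using d.conj_mem_core (inv_mem hs) hz
  have ha' : a' ∈ S ⊓ centralizer {g * u * g⁻¹} := by
    simpa using d.swap_conj_second F hg (inv_mem hs) ha
  set m := z⁻¹ * a' * z * a'⁻¹
  have hzS := d.core_le hz
  have hmA : m ∈ S ⊓ centralizer {g * u * g⁻¹} := by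
    have := d.swap_conj_second F hg (inv_mem hzS) ha'
    rw [inv_inv] at this
    exact mul_mem this (inv_mem ha')
  have hmR : m ∈ core K u := by
    have h1 := d.conj_mem_core ha'.1 hz
    have : z⁻¹ * (a' * z * a'⁻¹) ∈ core K u := mul_mem (inv_mem hz) h1
    rwa [← mul_assoc, ← mul_assoc] at this
  have hmP := d.second_inf_core F hKE hvC hvS hvR hmR hmA
  set q₁ := z' * z with hq₁
  set q₂ := a' * a with hq₂
  have hq₁R : q₁ ∈ core K u := mul_mem hz' hz
  have hq₂A : q₂ ∈ S ⊓ centralizer {g * u * g⁻¹} := mul_mem ha' ha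
  have heq : s⁻¹ * x * s * x = q₁ * m * q₂ := by
    rw [hza]; simp only [hq₁, hq₂, z', a', m]; group
  have hq₂P : InPlane e₀ c q₂ := by
    refine d.second_inf_core F hKE hvC hvS hvR ?_ hq₂A
    have : q₂ = (q₁ * m)⁻¹ * (s⁻¹ * x * s * x) := by rw [heq, inv_mul_cancel_left]
    rw [this]
    exact mul_mem (inv_mem (mul_mem hq₁R hmR)) (d.K_le_core (d.E_le (d.plane_mem F hsx)))
  have hq₁P : InPlane e₀ c q₁ := by
    have : q₁ = (s⁻¹ * x * s * x) * (m * q₂)⁻¹ := by rw [heq]; group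
    rw [this, d.inv_E (d.plane_mem F (d.plane_mul F hmP hq₂P))]
    exact d.plane_mul F hsx (d.plane_mul F hmP hq₂P)
  have hzE : z ∈ E := key (inv_mem hs) (fun h => hsW (inv_mem_iff.mp h)) hz (by rwa [inv_inv])
  set y := g⁻¹ * a * g with hy
  have hyR : y ∈ core K u := hm1 a ha
  have hyE : y ∈ E := by
    have hsS : g⁻¹ * s⁻¹ * g ∈ S := (hg.iff _).mpr (by simpa [mul_assoc] using inv_mem hs)
    refine key hsS (fun h => ?_) hyR ?_
    · have := (d.swap_W F hg h).1
      rw [show g * (g⁻¹ * s⁻¹ * g) * g⁻¹ = s⁻¹ by group] at this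
      exact hsW (inv_mem_iff.mp this)
    · have h1 := (d.swap_plane F hg hq₂P).2
      rw [show g⁻¹ * s⁻¹ * g * y * (g⁻¹ * s⁻¹ * g)⁻¹ * y = g⁻¹ * q₂ * g by simp only [hy, hq₂, a']; group]
      exact h1
  rw [hza]
  refine mul_mem (d.K_le_gen (d.E_le hzE)) ?_
  have := d.conj_gen hg.mem hgS (d.K_le_gen (d.E_le hyE))
  rwa [hy, show g * (g⁻¹ * a * g) * g⁻¹ = a by group] at this

/-- `g` centralises `S` modulo the target. -/
theorem swap_commutator {s : G} (hs : s ∈ S) : ⁅g, s⁆ ∈ genGroup S C := by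
  have hKE := d.swap_K_eq F hg
  obtain ⟨hvC, hvS, hvR, -⟩ := d.swap_v F hg
  have hgS : ∀ s ∈ S, g * s * g⁻¹ ∈ S := fun s hs => (hg.iff s).mp hs
  set L := genGroup S C
  have hconjS : ∀ {a x}, a ∈ S → x ∈ L → a * x * a⁻¹ ∈ L := fun ha hx =>
    d.conj_gen (d.le ha) (fun t ht => mul_mem (mul_mem ha ht) (inv_mem ha)) hx
  have hmul : ∀ {a b}, a ∈ S → ⁅g, a⁆ ∈ L → ⁅g, b⁆ ∈ L → ⁅g, a * b⁆ ∈ L := fun {a b} haS ha hb => by
    have e : ⁅g, a * b⁆ = ⁅g, a⁆ * (a * ⁅g, b⁆ * a⁻¹) := by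
      simp only [commutatorElement_def]; group
    rw [e]
    exact mul_mem ha (hconjS haS hb)
  have hL : ∀ x ∈ L, ⁅g, x⁆ ∈ L := fun x hx => by
    rw [commutatorElement_def]
    exact mul_mem (d.conj_gen hg.mem hgS hx) (inv_mem hx)
  have hu : ⁅g, u⁆ ∈ L := by
    rw [commutatorElement_def, d.inv_u]
    exact d.mem_gen_mul hvC hvS d.u_C d.u_mem
  have hWc : ∀ w ∈ planeCent S c, ⁅g, w⁆ ∈ L := fun w hw => by
    rcases d.W_cases F hg hw with h | h
    · exact hL w h
    · have := hmul (b := u) (d.genGroup_le h) (hL _ h) hu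
      rwa [mul_assoc, d.sq_u, mul_one] at this
  by_cases hsW : s ∈ planeCent S c
  · exact hWc s hsW
  -- an element outside `W` with square in the plane
  obtain ⟨b, hb, hbW, hb2⟩ : ∃ b ∈ S, b ∉ planeCent S c ∧ InPlane e₀ c (b * b) := by
    obtain ⟨r, hr, hrW, hrd⟩ := d.exists_rot F
    obtain ⟨w, hw, hwd⟩ := (d.card_W F).2 c (Or.inr (Or.inr (Or.inl rfl)))
    have hs0 : r * w ∈ S := mul_mem hr ((d.mem_W F).mp hw).1
    have hs0W : r * w ∉ planeCent S c := fun h => hrW (by
      have := mul_mem h (inv_mem hw); rwa [mul_inv_cancel_right] at this)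
    have hs0d : disp f (r * w) = 1 ∨ disp f (r * w) = e₀ := by
      rw [d.disp_mul F, hwd, d.flip F hr hrW]
      have hc2 := d.sq c F.c_mem
      have he2 := d.sq _ F.e₀_mem
      have hcm := (d.commute_E F.e₀_mem F.c_mem).eq
      rcases hrd with h | h <;> rw [h]
      · exact Or.inr (by rw [mul_assoc, hcm, ← mul_assoc, hc2, one_mul])
      · exact Or.inl (d.sq _ (E.mul_mem F.c_mem F.e₀_mem))
    set s0 := r * w
    have hsqE : s0 * s0 ∈ E := hKE ▸ d.sq_mem_K hs0 (d.mem_core_of_disp F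
      (d.mul_mem_W F hs0 hs0W hs0 hs0W) (d.disp_sq_flat F hs0 hs0d))
    rcases F.top _ hsqE with h | h
    · exact ⟨s0, hs0, hs0W, h⟩
    refine ⟨s0 * u, mul_mem hs0 d.u_mem, fun hm => hs0W ?_, ?_⟩
    · have := mul_mem hm (d.mem_W_of_mem_core F d.u_mem_core)
      rwa [mul_assoc, d.sq_u, mul_one] at this
    set e2 := s0⁻¹ * u * s0⁻¹⁻¹ * u with he2
    have he2E : e2 ∈ E := hKE ▸ d.conj_u _ (inv_mem hs0)
    have h2 : InPlane e₀ c (e2 * f) := (F.top e2 he2E).resolve_left
      (d.shift_u F hKE hvC hvS hvR (fun s hs a ha => d.swap_conj_second F hg hs ha) (inv_mem hs0)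
        fun hm => hs0W (inv_mem_iff.mp hm))
    have h3 := d.plane_mul F h h2
    have e : s0 * u * (s0 * u) = s0 * s0 * f * (e2 * f) := by
      symm
      calc s0 * s0 * f * (e2 * f) = s0 * s0 * (f * (e2 * f)) := by group
        _ = s0 * s0 * e2 := by
          rw [(d.commute_E he2E F.f_mem).eq, ← mul_assoc f f, d.sq f F.f_mem, one_mul]
        _ = _ := by rw [he2]; group
    show InPlane e₀ c (s0 * u * (s0 * u))
    rwa [e]
  have hgb : ⁅g, b⁆ ∈ L := by
    have hgbW : g * b * g⁻¹ ∉ planeCent S c := fun h => hbW (by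
      have := (d.swap_W F hg h).2
      rwa [show g⁻¹ * (g * b * g⁻¹) * g = b by group] at this)
    have h2 : InPlane e₀ c (g * b * g⁻¹ * (g * b * g⁻¹)) := by
      rw [conj_mul]; exact (d.swap_plane F hg hb2).1
    have := hconjS hb (d.sq_plane_congr F hg hb hbW (hgS b hb) hgbW hb2 h2)
    rw [commutatorElement_def]
    rwa [show b * (b⁻¹ * (g * b * g⁻¹)) * b⁻¹ = g * b * g⁻¹ * b⁻¹ by group]
      at this
  have hw := d.mul_mem_W F (inv_mem hb) (fun h => hbW (inv_mem_iff.mp h)) hs hsW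
  have := hmul hb hgb (hWc _ hw)
  rwa [mul_inv_cancel_left] at this

end Swap

end EightData

end Cfsg.Agent.H74.Asch
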